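import Cfsg.Agent.Lib.H04.Chev.Tab.E8

set_option autoImplicit false
set_option maxRecDepth 100000
set_option Elab.async false

open Cfsg.Lie

namespace Cfsg.Agent.H04.Chev.TE8

noncomputable def fconj0 : ℕ → Bool := fun k => checkConj chevE8 T (chevE8.simple (k / 240)) (k % 240)

theorem conj0c0 : segAll 0 5 fconj0 = true := by decide +kernel
theorem conj0c5 : segAll 5 5 fconj0 = true := by decide +kernel
theorem conj0c10 : segAll 10 5 fconj0 = true := by decide +kernel
theorem conj0c15 : segAll 15 5 fconj0 = true := by decide +kernel
theorem conj0c20 : segAll 20 5 fconj0 = true := by decide +kernel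
theorem conj0c25 : segAll 25 5 fconj0 = true := by decide +kernel
theorem conj0c30 : segAll 30 5 fconj0 = true := by decide +kernel
theorem conj0c35 : segAll 35 5 fconj0 = true := by decide +kernel
theorem conj0c40 : segAll 40 5 fconj0 = true := by decide +kernel
theorem conj0c45 : segAll 45 5 fconj0 = true := by decide +kernel
theorem conj0c50 : segAll 50 5 fconj0 = true := by decide +kernel
theorem conj0c55 : segAll 55 5 fconj0 = true := by decide +kernel
theorem conj0c60 : segAll 60 5 fconj0 = true := by decide +kernel
theorem conj0c65 : segAll 65 5 fconj0 = true := by decide +kernel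
theorem conj0c70 : segAll 70 5 fconj0 = true := by decide +kernel
theorem conj0c75 : segAll 75 5 fconj0 = true := by decide +kernel
theorem conj0c80 : segAll 80 5 fconj0 = true := by decide +kernel
theorem conj0c85 : segAll 85 5 fconj0 = true := by decide +kernel
theorem conj0c90 : segAll 90 5 fconj0 = true := by decide +kernel
theorem conj0c95 : segAll 95 5 fconj0 = true := by decide +kernel
theorem conj0c100 : segAll 100 5 fconj0 = true := by decide +kernel
theorem conj0c105 : segAll 105 5 fconj0 = true := by decide +kernel
theorem conj0c110 : segAll 110 5 fconj0 = true := by decide +kernel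
theorem conj0c115 : segAll 115 5 fconj0 = true := by decide +kernel
theorem conj0c120 : segAll 120 5 fconj0 = true := by decide +kernel
theorem conj0c125 : segAll 125 5 fconj0 = true := by decide +kernel
theorem conj0c130 : segAll 130 5 fconj0 = true := by decide +kernel
theorem conj0c135 : segAll 135 5 fconj0 = true := by decide +kernel
theorem conj0c140 : segAll 140 5 fconj0 = true := by decide +kernel
theorem conj0c145 : segAll 145 5 fconj0 = true := by decide +kernel
theorem conj0c150 : segAll 150 5 fconj0 = true := by decide +kernel
theorem conj0c155 : segAll 155 5 fconj0 = true := by decide +kernel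

theorem conj0 : segAll 0 160 (fun k => checkConj chevE8 T (chevE8.simple (k / 240)) (k % 240)) = true := by
  have h0 : segAll 0 5 fconj0 = true := conj0c0
  have h5 : segAll 0 10 fconj0 = true := segAll_join h0 conj0c5 rfl
  have h10 : segAll 0 15 fconj0 = true := segAll_join h5 conj0c10 rfl
  have h15 : segAll 0 20 fconj0 = true := segAll_join h10 conj0c15 rfl
  have h20 : segAll 0 25 fconj0 = true := segAll_join h15 conj0c20 rfl
  have h25 : segAll 0 30 fconj0 = true := segAll_join h20 conj0c25 rfl
  have h30 : segAll 0 35 fconj0 = true := segAll_join h25 conj0c30 rfl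
  have h35 : segAll 0 40 fconj0 = true := segAll_join h30 conj0c35 rfl
  have h40 : segAll 0 45 fconj0 = true := segAll_join h35 conj0c40 rfl
  have h45 : segAll 0 50 fconj0 = true := segAll_join h40 conj0c45 rfl
  have h50 : segAll 0 55 fconj0 = true := segAll_join h45 conj0c50 rfl
  have h55 : segAll 0 60 fconj0 = true := segAll_join h50 conj0c55 rfl
  have h60 : segAll 0 65 fconj0 = true := segAll_join h55 conj0c60 rfl
  have h65 : segAll 0 70 fconj0 = true := segAll_join h60 conj0c65 rfl
  have h70 : segAll 0 75 fconj0 = true := segAll_join h65 conj0c70 rfl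
  have h75 : segAll 0 80 fconj0 = true := segAll_join h70 conj0c75 rfl
  have h80 : segAll 0 85 fconj0 = true := segAll_join h75 conj0c80 rfl
  have h85 : segAll 0 90 fconj0 = true := segAll_join h80 conj0c85 rfl
  have h90 : segAll 0 95 fconj0 = true := segAll_join h85 conj0c90 rfl
  have h95 : segAll 0 100 fconj0 = true := segAll_join h90 conj0c95 rfl
  have h100 : segAll 0 105 fconj0 = true := segAll_join h95 conj0c100 rfl
  have h105 : segAll 0 110 fconj0 = true := segAll_join h100 conj0c105 rfl
  have h110 : segAll 0 115 fconj0 = true := segAll_join h105 conj0c110 rfl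
  have h115 : segAll 0 120 fconj0 = true := segAll_join h110 conj0c115 rfl
  have h120 : segAll 0 125 fconj0 = true := segAll_join h115 conj0c120 rfl
  have h125 : segAll 0 130 fconj0 = true := segAll_join h120 conj0c125 rfl
  have h130 : segAll 0 135 fconj0 = true := segAll_join h125 conj0c130 rfl
  have h135 : segAll 0 140 fconj0 = true := segAll_join h130 conj0c135 rfl
  have h140 : segAll 0 145 fconj0 = true := segAll_join h135 conj0c140 rfl
  have h145 : segAll 0 150 fconj0 = true := segAll_join h140 conj0c145 rfl
  have h150 : segAll 0 155 fconj0 = true := segAll_join h145 conj0c150 rfl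
  have h155 : segAll 0 160 fconj0 = true := segAll_join h150 conj0c155 rfl
  exact h155

end Cfsg.Agent.H04.Chev.TE8
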