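import Cfsg.Agent.Lib.H04.Chev.Tab.E8

set_option autoImplicit false
set_option maxRecDepth 100000
set_option Elab.async false

open Cfsg.Lie

namespace Cfsg.Agent.H04.Chev.TE8

noncomputable def fconj1 : ℕ → Bool := fun k => checkConj chevE8 T (chevE8.simple (k / 240)) (k % 240)

theorem conj1c160 : segAll 160 5 fconj1 = true := by decide +kernel
theorem conj1c165 : segAll 165 5 fconj1 = true := by decide +kernel
theorem conj1c170 : segAll 170 5 fconj1 = true := by decide +kernel
theorem conj1c175 : segAll 175 5 fconj1 = true := by decide +kernel
theorem conj1c180 : segAll 180 5 fconj1 = true := by decide +kernel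
theorem conj1c185 : segAll 185 5 fconj1 = true := by decide +kernel
theorem conj1c190 : segAll 190 5 fconj1 = true := by decide +kernel
theorem conj1c195 : segAll 195 5 fconj1 = true := by decide +kernel
theorem conj1c200 : segAll 200 5 fconj1 = true := by decide +kernel
theorem conj1c205 : segAll 205 5 fconj1 = true := by decide +kernel
theorem conj1c210 : segAll 210 5 fconj1 = true := by decide +kernel
theorem conj1c215 : segAll 215 5 fconj1 = true := by decide +kernel
theorem conj1c220 : segAll 220 5 fconj1 = true := by decide +kernel
theorem conj1c225 : segAll 225 5 fconj1 = true := by decide +kernel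
theorem conj1c230 : segAll 230 5 fconj1 = true := by decide +kernel
theorem conj1c235 : segAll 235 5 fconj1 = true := by decide +kernel
theorem conj1c240 : segAll 240 5 fconj1 = true := by decide +kernel
theorem conj1c245 : segAll 245 5 fconj1 = true := by decide +kernel
theorem conj1c250 : segAll 250 5 fconj1 = true := by decide +kernel
theorem conj1c255 : segAll 255 5 fconj1 = true := by decide +kernel
theorem conj1c260 : segAll 260 5 fconj1 = true := by decide +kernel
theorem conj1c265 : segAll 265 5 fconj1 = true := by decide +kernel
theorem conj1c270 : segAll 270 5 fconj1 = true := by decide +kernel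
theorem conj1c275 : segAll 275 5 fconj1 = true := by decide +kernel
theorem conj1c280 : segAll 280 5 fconj1 = true := by decide +kernel
theorem conj1c285 : segAll 285 5 fconj1 = true := by decide +kernel
theorem conj1c290 : segAll 290 5 fconj1 = true := by decide +kernel
theorem conj1c295 : segAll 295 5 fconj1 = true := by decide +kernel
theorem conj1c300 : segAll 300 5 fconj1 = true := by decide +kernel
theorem conj1c305 : segAll 305 5 fconj1 = true := by decide +kernel
theorem conj1c310 : segAll 310 5 fconj1 = true := by decide +kernel
theorem conj1c315 : segAll 315 5 fconj1 = true := by decide +kernel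

theorem conj1 : segAll 160 160 (fun k => checkConj chevE8 T (chevE8.simple (k / 240)) (k % 240)) = true := by
  have h160 : segAll 160 5 fconj1 = true := conj1c160
  have h165 : segAll 160 10 fconj1 = true := segAll_join h160 conj1c165 rfl
  have h170 : segAll 160 15 fconj1 = true := segAll_join h165 conj1c170 rfl
  have h175 : segAll 160 20 fconj1 = true := segAll_join h170 conj1c175 rfl
  have h180 : segAll 160 25 fconj1 = true := segAll_join h175 conj1c180 rfl
  have h185 : segAll 160 30 fconj1 = true := segAll_join h180 conj1c185 rfl
  have h190 : segAll 160 35 fconj1 = true := segAll_join h185 conj1c190 rfl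
  have h195 : segAll 160 40 fconj1 = true := segAll_join h190 conj1c195 rfl
  have h200 : segAll 160 45 fconj1 = true := segAll_join h195 conj1c200 rfl
  have h205 : segAll 160 50 fconj1 = true := segAll_join h200 conj1c205 rfl
  have h210 : segAll 160 55 fconj1 = true := segAll_join h205 conj1c210 rfl
  have h215 : segAll 160 60 fconj1 = true := segAll_join h210 conj1c215 rfl
  have h220 : segAll 160 65 fconj1 = true := segAll_join h215 conj1c220 rfl
  have h225 : segAll 160 70 fconj1 = true := segAll_join h220 conj1c225 rfl
  have h230 : segAll 160 75 fconj1 = true := segAll_join h225 conj1c230 rfl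
  have h235 : segAll 160 80 fconj1 = true := segAll_join h230 conj1c235 rfl
  have h240 : segAll 160 85 fconj1 = true := segAll_join h235 conj1c240 rfl
  have h245 : segAll 160 90 fconj1 = true := segAll_join h240 conj1c245 rfl
  have h250 : segAll 160 95 fconj1 = true := segAll_join h245 conj1c250 rfl
  have h255 : segAll 160 100 fconj1 = true := segAll_join h250 conj1c255 rfl
  have h260 : segAll 160 105 fconj1 = true := segAll_join h255 conj1c260 rfl
  have h265 : segAll 160 110 fconj1 = true := segAll_join h260 conj1c265 rfl
  have h270 : segAll 160 115 fconj1 = true := segAll_join h265 conj1c270 rfl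
  have h275 : segAll 160 120 fconj1 = true := segAll_join h270 conj1c275 rfl
  have h280 : segAll 160 125 fconj1 = true := segAll_join h275 conj1c280 rfl
  have h285 : segAll 160 130 fconj1 = true := segAll_join h280 conj1c285 rfl
  have h290 : segAll 160 135 fconj1 = true := segAll_join h285 conj1c290 rfl
  have h295 : segAll 160 140 fconj1 = true := segAll_join h290 conj1c295 rfl
  have h300 : segAll 160 145 fconj1 = true := segAll_join h295 conj1c300 rfl
  have h305 : segAll 160 150 fconj1 = true := segAll_join h300 conj1c305 rfl
  have h310 : segAll 160 155 fconj1 = true := segAll_join h305 conj1c310 rfl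
  have h315 : segAll 160 160 fconj1 = true := segAll_join h310 conj1c315 rfl
  exact h315

end Cfsg.Agent.H04.Chev.TE8
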