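import Cfsg.Agent.Lib.H04.Chev.Tab.E8

set_option autoImplicit false
set_option maxRecDepth 100000
set_option Elab.async false

open Cfsg.Lie

namespace Cfsg.Agent.H04.Chev.TE8

noncomputable def fconj10 : ℕ → Bool := fun k => checkConj chevE8 T (chevE8.simple (k / 240)) (k % 240)

theorem conj10c1600 : segAll 1600 5 fconj10 = true := by decide +kernel
theorem conj10c1605 : segAll 1605 5 fconj10 = true := by decide +kernel
theorem conj10c1610 : segAll 1610 5 fconj10 = true := by decide +kernel
theorem conj10c1615 : segAll 1615 5 fconj10 = true := by decide +kernel
theorem conj10c1620 : segAll 1620 5 fconj10 = true := by decide +kernel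
theorem conj10c1625 : segAll 1625 5 fconj10 = true := by decide +kernel
theorem conj10c1630 : segAll 1630 5 fconj10 = true := by decide +kernel
theorem conj10c1635 : segAll 1635 5 fconj10 = true := by decide +kernel
theorem conj10c1640 : segAll 1640 5 fconj10 = true := by decide +kernel
theorem conj10c1645 : segAll 1645 5 fconj10 = true := by decide +kernel
theorem conj10c1650 : segAll 1650 5 fconj10 = true := by decide +kernel
theorem conj10c1655 : segAll 1655 5 fconj10 = true := by decide +kernel
theorem conj10c1660 : segAll 1660 5 fconj10 = true := by decide +kernel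
theorem conj10c1665 : segAll 1665 5 fconj10 = true := by decide +kernel
theorem conj10c1670 : segAll 1670 5 fconj10 = true := by decide +kernel
theorem conj10c1675 : segAll 1675 5 fconj10 = true := by decide +kernel
theorem conj10c1680 : segAll 1680 5 fconj10 = true := by decide +kernel
theorem conj10c1685 : segAll 1685 5 fconj10 = true := by decide +kernel
theorem conj10c1690 : segAll 1690 5 fconj10 = true := by decide +kernel
theorem conj10c1695 : segAll 1695 5 fconj10 = true := by decide +kernel
theorem conj10c1700 : segAll 1700 5 fconj10 = true := by decide +kernel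
theorem conj10c1705 : segAll 1705 5 fconj10 = true := by decide +kernel
theorem conj10c1710 : segAll 1710 5 fconj10 = true := by decide +kernel
theorem conj10c1715 : segAll 1715 5 fconj10 = true := by decide +kernel
theorem conj10c1720 : segAll 1720 5 fconj10 = true := by decide +kernel
theorem conj10c1725 : segAll 1725 5 fconj10 = true := by decide +kernel
theorem conj10c1730 : segAll 1730 5 fconj10 = true := by decide +kernel
theorem conj10c1735 : segAll 1735 5 fconj10 = true := by decide +kernel
theorem conj10c1740 : segAll 1740 5 fconj10 = true := by decide +kernel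
theorem conj10c1745 : segAll 1745 5 fconj10 = true := by decide +kernel
theorem conj10c1750 : segAll 1750 5 fconj10 = true := by decide +kernel
theorem conj10c1755 : segAll 1755 5 fconj10 = true := by decide +kernel

theorem conj10 : segAll 1600 160 (fun k => checkConj chevE8 T (chevE8.simple (k / 240)) (k % 240)) = true := by
  have h1600 : segAll 1600 5 fconj10 = true := conj10c1600
  have h1605 : segAll 1600 10 fconj10 = true := segAll_join h1600 conj10c1605 rfl
  have h1610 : segAll 1600 15 fconj10 = true := segAll_join h1605 conj10c1610 rfl
  have h1615 : segAll 1600 20 fconj10 = true := segAll_join h1610 conj10c1615 rfl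
  have h1620 : segAll 1600 25 fconj10 = true := segAll_join h1615 conj10c1620 rfl
  have h1625 : segAll 1600 30 fconj10 = true := segAll_join h1620 conj10c1625 rfl
  have h1630 : segAll 1600 35 fconj10 = true := segAll_join h1625 conj10c1630 rfl
  have h1635 : segAll 1600 40 fconj10 = true := segAll_join h1630 conj10c1635 rfl
  have h1640 : segAll 1600 45 fconj10 = true := segAll_join h1635 conj10c1640 rfl
  have h1645 : segAll 1600 50 fconj10 = true := segAll_join h1640 conj10c1645 rfl
  have h1650 : segAll 1600 55 fconj10 = true := segAll_join h1645 conj10c1650 rfl
  have h1655 : segAll 1600 60 fconj10 = true := segAll_join h1650 conj10c1655 rfl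
  have h1660 : segAll 1600 65 fconj10 = true := segAll_join h1655 conj10c1660 rfl
  have h1665 : segAll 1600 70 fconj10 = true := segAll_join h1660 conj10c1665 rfl
  have h1670 : segAll 1600 75 fconj10 = true := segAll_join h1665 conj10c1670 rfl
  have h1675 : segAll 1600 80 fconj10 = true := segAll_join h1670 conj10c1675 rfl
  have h1680 : segAll 1600 85 fconj10 = true := segAll_join h1675 conj10c1680 rfl
  have h1685 : segAll 1600 90 fconj10 = true := segAll_join h1680 conj10c1685 rfl
  have h1690 : segAll 1600 95 fconj10 = true := segAll_join h1685 conj10c1690 rfl
  have h1695 : segAll 1600 100 fconj10 = true := segAll_join h1690 conj10c1695 rfl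
  have h1700 : segAll 1600 105 fconj10 = true := segAll_join h1695 conj10c1700 rfl
  have h1705 : segAll 1600 110 fconj10 = true := segAll_join h1700 conj10c1705 rfl
  have h1710 : segAll 1600 115 fconj10 = true := segAll_join h1705 conj10c1710 rfl
  have h1715 : segAll 1600 120 fconj10 = true := segAll_join h1710 conj10c1715 rfl
  have h1720 : segAll 1600 125 fconj10 = true := segAll_join h1715 conj10c1720 rfl
  have h1725 : segAll 1600 130 fconj10 = true := segAll_join h1720 conj10c1725 rfl
  have h1730 : segAll 1600 135 fconj10 = true := segAll_join h1725 conj10c1730 rfl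
  have h1735 : segAll 1600 140 fconj10 = true := segAll_join h1730 conj10c1735 rfl
  have h1740 : segAll 1600 145 fconj10 = true := segAll_join h1735 conj10c1740 rfl
  have h1745 : segAll 1600 150 fconj10 = true := segAll_join h1740 conj10c1745 rfl
  have h1750 : segAll 1600 155 fconj10 = true := segAll_join h1745 conj10c1750 rfl
  have h1755 : segAll 1600 160 fconj10 = true := segAll_join h1750 conj10c1755 rfl
  exact h1755

end Cfsg.Agent.H04.Chev.TE8
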