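import Cfsg.Agent.Lib.H04.Chev.Tab.E8

set_option autoImplicit false
set_option maxRecDepth 100000
set_option Elab.async false

open Cfsg.Lie

namespace Cfsg.Agent.H04.Chev.TE8

noncomputable def fconj11 : ℕ → Bool := fun k => checkConj chevE8 T (chevE8.simple (k / 240)) (k % 240)

theorem conj11c1760 : segAll 1760 5 fconj11 = true := by decide +kernel
theorem conj11c1765 : segAll 1765 5 fconj11 = true := by decide +kernel
theorem conj11c1770 : segAll 1770 5 fconj11 = true := by decide +kernel
theorem conj11c1775 : segAll 1775 5 fconj11 = true := by decide +kernel
theorem conj11c1780 : segAll 1780 5 fconj11 = true := by decide +kernel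
theorem conj11c1785 : segAll 1785 5 fconj11 = true := by decide +kernel
theorem conj11c1790 : segAll 1790 5 fconj11 = true := by decide +kernel
theorem conj11c1795 : segAll 1795 5 fconj11 = true := by decide +kernel
theorem conj11c1800 : segAll 1800 5 fconj11 = true := by decide +kernel
theorem conj11c1805 : segAll 1805 5 fconj11 = true := by decide +kernel
theorem conj11c1810 : segAll 1810 5 fconj11 = true := by decide +kernel
theorem conj11c1815 : segAll 1815 5 fconj11 = true := by decide +kernel
theorem conj11c1820 : segAll 1820 5 fconj11 = true := by decide +kernel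
theorem conj11c1825 : segAll 1825 5 fconj11 = true := by decide +kernel
theorem conj11c1830 : segAll 1830 5 fconj11 = true := by decide +kernel
theorem conj11c1835 : segAll 1835 5 fconj11 = true := by decide +kernel
theorem conj11c1840 : segAll 1840 5 fconj11 = true := by decide +kernel
theorem conj11c1845 : segAll 1845 5 fconj11 = true := by decide +kernel
theorem conj11c1850 : segAll 1850 5 fconj11 = true := by decide +kernel
theorem conj11c1855 : segAll 1855 5 fconj11 = true := by decide +kernel
theorem conj11c1860 : segAll 1860 5 fconj11 = true := by decide +kernel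
theorem conj11c1865 : segAll 1865 5 fconj11 = true := by decide +kernel
theorem conj11c1870 : segAll 1870 5 fconj11 = true := by decide +kernel
theorem conj11c1875 : segAll 1875 5 fconj11 = true := by decide +kernel
theorem conj11c1880 : segAll 1880 5 fconj11 = true := by decide +kernel
theorem conj11c1885 : segAll 1885 5 fconj11 = true := by decide +kernel
theorem conj11c1890 : segAll 1890 5 fconj11 = true := by decide +kernel
theorem conj11c1895 : segAll 1895 5 fconj11 = true := by decide +kernel
theorem conj11c1900 : segAll 1900 5 fconj11 = true := by decide +kernel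
theorem conj11c1905 : segAll 1905 5 fconj11 = true := by decide +kernel
theorem conj11c1910 : segAll 1910 5 fconj11 = true := by decide +kernel
theorem conj11c1915 : segAll 1915 5 fconj11 = true := by decide +kernel

theorem conj11 : segAll 1760 160 (fun k => checkConj chevE8 T (chevE8.simple (k / 240)) (k % 240)) = true := by
  have h1760 : segAll 1760 5 fconj11 = true := conj11c1760
  have h1765 : segAll 1760 10 fconj11 = true := segAll_join h1760 conj11c1765 rfl
  have h1770 : segAll 1760 15 fconj11 = true := segAll_join h1765 conj11c1770 rfl
  have h1775 : segAll 1760 20 fconj11 = true := segAll_join h1770 conj11c1775 rfl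
  have h1780 : segAll 1760 25 fconj11 = true := segAll_join h1775 conj11c1780 rfl
  have h1785 : segAll 1760 30 fconj11 = true := segAll_join h1780 conj11c1785 rfl
  have h1790 : segAll 1760 35 fconj11 = true := segAll_join h1785 conj11c1790 rfl
  have h1795 : segAll 1760 40 fconj11 = true := segAll_join h1790 conj11c1795 rfl
  have h1800 : segAll 1760 45 fconj11 = true := segAll_join h1795 conj11c1800 rfl
  have h1805 : segAll 1760 50 fconj11 = true := segAll_join h1800 conj11c1805 rfl
  have h1810 : segAll 1760 55 fconj11 = true := segAll_join h1805 conj11c1810 rfl
  have h1815 : segAll 1760 60 fconj11 = true := segAll_join h1810 conj11c1815 rfl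
  have h1820 : segAll 1760 65 fconj11 = true := segAll_join h1815 conj11c1820 rfl
  have h1825 : segAll 1760 70 fconj11 = true := segAll_join h1820 conj11c1825 rfl
  have h1830 : segAll 1760 75 fconj11 = true := segAll_join h1825 conj11c1830 rfl
  have h1835 : segAll 1760 80 fconj11 = true := segAll_join h1830 conj11c1835 rfl
  have h1840 : segAll 1760 85 fconj11 = true := segAll_join h1835 conj11c1840 rfl
  have h1845 : segAll 1760 90 fconj11 = true := segAll_join h1840 conj11c1845 rfl
  have h1850 : segAll 1760 95 fconj11 = true := segAll_join h1845 conj11c1850 rfl
  have h1855 : segAll 1760 100 fconj11 = true := segAll_join h1850 conj11c1855 rfl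
  have h1860 : segAll 1760 105 fconj11 = true := segAll_join h1855 conj11c1860 rfl
  have h1865 : segAll 1760 110 fconj11 = true := segAll_join h1860 conj11c1865 rfl
  have h1870 : segAll 1760 115 fconj11 = true := segAll_join h1865 conj11c1870 rfl
  have h1875 : segAll 1760 120 fconj11 = true := segAll_join h1870 conj11c1875 rfl
  have h1880 : segAll 1760 125 fconj11 = true := segAll_join h1875 conj11c1880 rfl
  have h1885 : segAll 1760 130 fconj11 = true := segAll_join h1880 conj11c1885 rfl
  have h1890 : segAll 1760 135 fconj11 = true := segAll_join h1885 conj11c1890 rfl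
  have h1895 : segAll 1760 140 fconj11 = true := segAll_join h1890 conj11c1895 rfl
  have h1900 : segAll 1760 145 fconj11 = true := segAll_join h1895 conj11c1900 rfl
  have h1905 : segAll 1760 150 fconj11 = true := segAll_join h1900 conj11c1905 rfl
  have h1910 : segAll 1760 155 fconj11 = true := segAll_join h1905 conj11c1910 rfl
  have h1915 : segAll 1760 160 fconj11 = true := segAll_join h1910 conj11c1915 rfl
  exact h1915

end Cfsg.Agent.H04.Chev.TE8
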