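import Cfsg.Agent.Lib.H04.Chev.Tab.E8

set_option autoImplicit false
set_option maxRecDepth 100000
set_option Elab.async false

open Cfsg.Lie

namespace Cfsg.Agent.H04.Chev.TE8

noncomputable def fconj2 : ℕ → Bool := fun k => checkConj chevE8 T (chevE8.simple (k / 240)) (k % 240)

theorem conj2c320 : segAll 320 5 fconj2 = true := by decide +kernel
theorem conj2c325 : segAll 325 5 fconj2 = true := by decide +kernel
theorem conj2c330 : segAll 330 5 fconj2 = true := by decide +kernel
theorem conj2c335 : segAll 335 5 fconj2 = true := by decide +kernel
theorem conj2c340 : segAll 340 5 fconj2 = true := by decide +kernel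
theorem conj2c345 : segAll 345 5 fconj2 = true := by decide +kernel
theorem conj2c350 : segAll 350 5 fconj2 = true := by decide +kernel
theorem conj2c355 : segAll 355 5 fconj2 = true := by decide +kernel
theorem conj2c360 : segAll 360 5 fconj2 = true := by decide +kernel
theorem conj2c365 : segAll 365 5 fconj2 = true := by decide +kernel
theorem conj2c370 : segAll 370 5 fconj2 = true := by decide +kernel
theorem conj2c375 : segAll 375 5 fconj2 = true := by decide +kernel
theorem conj2c380 : segAll 380 5 fconj2 = true := by decide +kernel
theorem conj2c385 : segAll 385 5 fconj2 = true := by decide +kernel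
theorem conj2c390 : segAll 390 5 fconj2 = true := by decide +kernel
theorem conj2c395 : segAll 395 5 fconj2 = true := by decide +kernel
theorem conj2c400 : segAll 400 5 fconj2 = true := by decide +kernel
theorem conj2c405 : segAll 405 5 fconj2 = true := by decide +kernel
theorem conj2c410 : segAll 410 5 fconj2 = true := by decide +kernel
theorem conj2c415 : segAll 415 5 fconj2 = true := by decide +kernel
theorem conj2c420 : segAll 420 5 fconj2 = true := by decide +kernel
theorem conj2c425 : segAll 425 5 fconj2 = true := by decide +kernel
theorem conj2c430 : segAll 430 5 fconj2 = true := by decide +kernel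
theorem conj2c435 : segAll 435 5 fconj2 = true := by decide +kernel
theorem conj2c440 : segAll 440 5 fconj2 = true := by decide +kernel
theorem conj2c445 : segAll 445 5 fconj2 = true := by decide +kernel
theorem conj2c450 : segAll 450 5 fconj2 = true := by decide +kernel
theorem conj2c455 : segAll 455 5 fconj2 = true := by decide +kernel
theorem conj2c460 : segAll 460 5 fconj2 = true := by decide +kernel
theorem conj2c465 : segAll 465 5 fconj2 = true := by decide +kernel
theorem conj2c470 : segAll 470 5 fconj2 = true := by decide +kernel
theorem conj2c475 : segAll 475 5 fconj2 = true := by decide +kernel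

theorem conj2 : segAll 320 160 (fun k => checkConj chevE8 T (chevE8.simple (k / 240)) (k % 240)) = true := by
  have h320 : segAll 320 5 fconj2 = true := conj2c320
  have h325 : segAll 320 10 fconj2 = true := segAll_join h320 conj2c325 rfl
  have h330 : segAll 320 15 fconj2 = true := segAll_join h325 conj2c330 rfl
  have h335 : segAll 320 20 fconj2 = true := segAll_join h330 conj2c335 rfl
  have h340 : segAll 320 25 fconj2 = true := segAll_join h335 conj2c340 rfl
  have h345 : segAll 320 30 fconj2 = true := segAll_join h340 conj2c345 rfl
  have h350 : segAll 320 35 fconj2 = true := segAll_join h345 conj2c350 rfl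
  have h355 : segAll 320 40 fconj2 = true := segAll_join h350 conj2c355 rfl
  have h360 : segAll 320 45 fconj2 = true := segAll_join h355 conj2c360 rfl
  have h365 : segAll 320 50 fconj2 = true := segAll_join h360 conj2c365 rfl
  have h370 : segAll 320 55 fconj2 = true := segAll_join h365 conj2c370 rfl
  have h375 : segAll 320 60 fconj2 = true := segAll_join h370 conj2c375 rfl
  have h380 : segAll 320 65 fconj2 = true := segAll_join h375 conj2c380 rfl
  have h385 : segAll 320 70 fconj2 = true := segAll_join h380 conj2c385 rfl
  have h390 : segAll 320 75 fconj2 = true := segAll_join h385 conj2c390 rfl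
  have h395 : segAll 320 80 fconj2 = true := segAll_join h390 conj2c395 rfl
  have h400 : segAll 320 85 fconj2 = true := segAll_join h395 conj2c400 rfl
  have h405 : segAll 320 90 fconj2 = true := segAll_join h400 conj2c405 rfl
  have h410 : segAll 320 95 fconj2 = true := segAll_join h405 conj2c410 rfl
  have h415 : segAll 320 100 fconj2 = true := segAll_join h410 conj2c415 rfl
  have h420 : segAll 320 105 fconj2 = true := segAll_join h415 conj2c420 rfl
  have h425 : segAll 320 110 fconj2 = true := segAll_join h420 conj2c425 rfl
  have h430 : segAll 320 115 fconj2 = true := segAll_join h425 conj2c430 rfl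
  have h435 : segAll 320 120 fconj2 = true := segAll_join h430 conj2c435 rfl
  have h440 : segAll 320 125 fconj2 = true := segAll_join h435 conj2c440 rfl
  have h445 : segAll 320 130 fconj2 = true := segAll_join h440 conj2c445 rfl
  have h450 : segAll 320 135 fconj2 = true := segAll_join h445 conj2c450 rfl
  have h455 : segAll 320 140 fconj2 = true := segAll_join h450 conj2c455 rfl
  have h460 : segAll 320 145 fconj2 = true := segAll_join h455 conj2c460 rfl
  have h465 : segAll 320 150 fconj2 = true := segAll_join h460 conj2c465 rfl
  have h470 : segAll 320 155 fconj2 = true := segAll_join h465 conj2c470 rfl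
  have h475 : segAll 320 160 fconj2 = true := segAll_join h470 conj2c475 rfl
  exact h475

end Cfsg.Agent.H04.Chev.TE8
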