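import Cfsg.Agent.Lib.H04.Chev.Tab.E8

set_option autoImplicit false
set_option maxRecDepth 100000
set_option Elab.async false

open Cfsg.Lie

namespace Cfsg.Agent.H04.Chev.TE8

noncomputable def fconj3 : ℕ → Bool := fun k => checkConj chevE8 T (chevE8.simple (k / 240)) (k % 240)

theorem conj3c480 : segAll 480 5 fconj3 = true := by decide +kernel
theorem conj3c485 : segAll 485 5 fconj3 = true := by decide +kernel
theorem conj3c490 : segAll 490 5 fconj3 = true := by decide +kernel
theorem conj3c495 : segAll 495 5 fconj3 = true := by decide +kernel
theorem conj3c500 : segAll 500 5 fconj3 = true := by decide +kernel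
theorem conj3c505 : segAll 505 5 fconj3 = true := by decide +kernel
theorem conj3c510 : segAll 510 5 fconj3 = true := by decide +kernel
theorem conj3c515 : segAll 515 5 fconj3 = true := by decide +kernel
theorem conj3c520 : segAll 520 5 fconj3 = true := by decide +kernel
theorem conj3c525 : segAll 525 5 fconj3 = true := by decide +kernel
theorem conj3c530 : segAll 530 5 fconj3 = true := by decide +kernel
theorem conj3c535 : segAll 535 5 fconj3 = true := by decide +kernel
theorem conj3c540 : segAll 540 5 fconj3 = true := by decide +kernel
theorem conj3c545 : segAll 545 5 fconj3 = true := by decide +kernel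
theorem conj3c550 : segAll 550 5 fconj3 = true := by decide +kernel
theorem conj3c555 : segAll 555 5 fconj3 = true := by decide +kernel
theorem conj3c560 : segAll 560 5 fconj3 = true := by decide +kernel
theorem conj3c565 : segAll 565 5 fconj3 = true := by decide +kernel
theorem conj3c570 : segAll 570 5 fconj3 = true := by decide +kernel
theorem conj3c575 : segAll 575 5 fconj3 = true := by decide +kernel
theorem conj3c580 : segAll 580 5 fconj3 = true := by decide +kernel
theorem conj3c585 : segAll 585 5 fconj3 = true := by decide +kernel
theorem conj3c590 : segAll 590 5 fconj3 = true := by decide +kernel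
theorem conj3c595 : segAll 595 5 fconj3 = true := by decide +kernel
theorem conj3c600 : segAll 600 5 fconj3 = true := by decide +kernel
theorem conj3c605 : segAll 605 5 fconj3 = true := by decide +kernel
theorem conj3c610 : segAll 610 5 fconj3 = true := by decide +kernel
theorem conj3c615 : segAll 615 5 fconj3 = true := by decide +kernel
theorem conj3c620 : segAll 620 5 fconj3 = true := by decide +kernel
theorem conj3c625 : segAll 625 5 fconj3 = true := by decide +kernel
theorem conj3c630 : segAll 630 5 fconj3 = true := by decide +kernel
theorem conj3c635 : segAll 635 5 fconj3 = true := by decide +kernel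

theorem conj3 : segAll 480 160 (fun k => checkConj chevE8 T (chevE8.simple (k / 240)) (k % 240)) = true := by
  have h480 : segAll 480 5 fconj3 = true := conj3c480
  have h485 : segAll 480 10 fconj3 = true := segAll_join h480 conj3c485 rfl
  have h490 : segAll 480 15 fconj3 = true := segAll_join h485 conj3c490 rfl
  have h495 : segAll 480 20 fconj3 = true := segAll_join h490 conj3c495 rfl
  have h500 : segAll 480 25 fconj3 = true := segAll_join h495 conj3c500 rfl
  have h505 : segAll 480 30 fconj3 = true := segAll_join h500 conj3c505 rfl
  have h510 : segAll 480 35 fconj3 = true := segAll_join h505 conj3c510 rfl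
  have h515 : segAll 480 40 fconj3 = true := segAll_join h510 conj3c515 rfl
  have h520 : segAll 480 45 fconj3 = true := segAll_join h515 conj3c520 rfl
  have h525 : segAll 480 50 fconj3 = true := segAll_join h520 conj3c525 rfl
  have h530 : segAll 480 55 fconj3 = true := segAll_join h525 conj3c530 rfl
  have h535 : segAll 480 60 fconj3 = true := segAll_join h530 conj3c535 rfl
  have h540 : segAll 480 65 fconj3 = true := segAll_join h535 conj3c540 rfl
  have h545 : segAll 480 70 fconj3 = true := segAll_join h540 conj3c545 rfl
  have h550 : segAll 480 75 fconj3 = true := segAll_join h545 conj3c550 rfl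
  have h555 : segAll 480 80 fconj3 = true := segAll_join h550 conj3c555 rfl
  have h560 : segAll 480 85 fconj3 = true := segAll_join h555 conj3c560 rfl
  have h565 : segAll 480 90 fconj3 = true := segAll_join h560 conj3c565 rfl
  have h570 : segAll 480 95 fconj3 = true := segAll_join h565 conj3c570 rfl
  have h575 : segAll 480 100 fconj3 = true := segAll_join h570 conj3c575 rfl
  have h580 : segAll 480 105 fconj3 = true := segAll_join h575 conj3c580 rfl
  have h585 : segAll 480 110 fconj3 = true := segAll_join h580 conj3c585 rfl
  have h590 : segAll 480 115 fconj3 = true := segAll_join h585 conj3c590 rfl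
  have h595 : segAll 480 120 fconj3 = true := segAll_join h590 conj3c595 rfl
  have h600 : segAll 480 125 fconj3 = true := segAll_join h595 conj3c600 rfl
  have h605 : segAll 480 130 fconj3 = true := segAll_join h600 conj3c605 rfl
  have h610 : segAll 480 135 fconj3 = true := segAll_join h605 conj3c610 rfl
  have h615 : segAll 480 140 fconj3 = true := segAll_join h610 conj3c615 rfl
  have h620 : segAll 480 145 fconj3 = true := segAll_join h615 conj3c620 rfl
  have h625 : segAll 480 150 fconj3 = true := segAll_join h620 conj3c625 rfl
  have h630 : segAll 480 155 fconj3 = true := segAll_join h625 conj3c630 rfl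
  have h635 : segAll 480 160 fconj3 = true := segAll_join h630 conj3c635 rfl
  exact h635

end Cfsg.Agent.H04.Chev.TE8
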