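import Cfsg.Agent.Lib.H04.Chev.Tab.E8

set_option autoImplicit false
set_option maxRecDepth 100000
set_option Elab.async false

open Cfsg.Lie

namespace Cfsg.Agent.H04.Chev.TE8

noncomputable def fconj4 : ℕ → Bool := fun k => checkConj chevE8 T (chevE8.simple (k / 240)) (k % 240)

theorem conj4c640 : segAll 640 5 fconj4 = true := by decide +kernel
theorem conj4c645 : segAll 645 5 fconj4 = true := by decide +kernel
theorem conj4c650 : segAll 650 5 fconj4 = true := by decide +kernel
theorem conj4c655 : segAll 655 5 fconj4 = true := by decide +kernel
theorem conj4c660 : segAll 660 5 fconj4 = true := by decide +kernel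
theorem conj4c665 : segAll 665 5 fconj4 = true := by decide +kernel
theorem conj4c670 : segAll 670 5 fconj4 = true := by decide +kernel
theorem conj4c675 : segAll 675 5 fconj4 = true := by decide +kernel
theorem conj4c680 : segAll 680 5 fconj4 = true := by decide +kernel
theorem conj4c685 : segAll 685 5 fconj4 = true := by decide +kernel
theorem conj4c690 : segAll 690 5 fconj4 = true := by decide +kernel
theorem conj4c695 : segAll 695 5 fconj4 = true := by decide +kernel
theorem conj4c700 : segAll 700 5 fconj4 = true := by decide +kernel
theorem conj4c705 : segAll 705 5 fconj4 = true := by decide +kernel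
theorem conj4c710 : segAll 710 5 fconj4 = true := by decide +kernel
theorem conj4c715 : segAll 715 5 fconj4 = true := by decide +kernel
theorem conj4c720 : segAll 720 5 fconj4 = true := by decide +kernel
theorem conj4c725 : segAll 725 5 fconj4 = true := by decide +kernel
theorem conj4c730 : segAll 730 5 fconj4 = true := by decide +kernel
theorem conj4c735 : segAll 735 5 fconj4 = true := by decide +kernel
theorem conj4c740 : segAll 740 5 fconj4 = true := by decide +kernel
theorem conj4c745 : segAll 745 5 fconj4 = true := by decide +kernel
theorem conj4c750 : segAll 750 5 fconj4 = true := by decide +kernel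
theorem conj4c755 : segAll 755 5 fconj4 = true := by decide +kernel
theorem conj4c760 : segAll 760 5 fconj4 = true := by decide +kernel
theorem conj4c765 : segAll 765 5 fconj4 = true := by decide +kernel
theorem conj4c770 : segAll 770 5 fconj4 = true := by decide +kernel
theorem conj4c775 : segAll 775 5 fconj4 = true := by decide +kernel
theorem conj4c780 : segAll 780 5 fconj4 = true := by decide +kernel
theorem conj4c785 : segAll 785 5 fconj4 = true := by decide +kernel
theorem conj4c790 : segAll 790 5 fconj4 = true := by decide +kernel
theorem conj4c795 : segAll 795 5 fconj4 = true := by decide +kernel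

theorem conj4 : segAll 640 160 (fun k => checkConj chevE8 T (chevE8.simple (k / 240)) (k % 240)) = true := by
  have h640 : segAll 640 5 fconj4 = true := conj4c640
  have h645 : segAll 640 10 fconj4 = true := segAll_join h640 conj4c645 rfl
  have h650 : segAll 640 15 fconj4 = true := segAll_join h645 conj4c650 rfl
  have h655 : segAll 640 20 fconj4 = true := segAll_join h650 conj4c655 rfl
  have h660 : segAll 640 25 fconj4 = true := segAll_join h655 conj4c660 rfl
  have h665 : segAll 640 30 fconj4 = true := segAll_join h660 conj4c665 rfl
  have h670 : segAll 640 35 fconj4 = true := segAll_join h665 conj4c670 rfl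
  have h675 : segAll 640 40 fconj4 = true := segAll_join h670 conj4c675 rfl
  have h680 : segAll 640 45 fconj4 = true := segAll_join h675 conj4c680 rfl
  have h685 : segAll 640 50 fconj4 = true := segAll_join h680 conj4c685 rfl
  have h690 : segAll 640 55 fconj4 = true := segAll_join h685 conj4c690 rfl
  have h695 : segAll 640 60 fconj4 = true := segAll_join h690 conj4c695 rfl
  have h700 : segAll 640 65 fconj4 = true := segAll_join h695 conj4c700 rfl
  have h705 : segAll 640 70 fconj4 = true := segAll_join h700 conj4c705 rfl
  have h710 : segAll 640 75 fconj4 = true := segAll_join h705 conj4c710 rfl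
  have h715 : segAll 640 80 fconj4 = true := segAll_join h710 conj4c715 rfl
  have h720 : segAll 640 85 fconj4 = true := segAll_join h715 conj4c720 rfl
  have h725 : segAll 640 90 fconj4 = true := segAll_join h720 conj4c725 rfl
  have h730 : segAll 640 95 fconj4 = true := segAll_join h725 conj4c730 rfl
  have h735 : segAll 640 100 fconj4 = true := segAll_join h730 conj4c735 rfl
  have h740 : segAll 640 105 fconj4 = true := segAll_join h735 conj4c740 rfl
  have h745 : segAll 640 110 fconj4 = true := segAll_join h740 conj4c745 rfl
  have h750 : segAll 640 115 fconj4 = true := segAll_join h745 conj4c750 rfl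
  have h755 : segAll 640 120 fconj4 = true := segAll_join h750 conj4c755 rfl
  have h760 : segAll 640 125 fconj4 = true := segAll_join h755 conj4c760 rfl
  have h765 : segAll 640 130 fconj4 = true := segAll_join h760 conj4c765 rfl
  have h770 : segAll 640 135 fconj4 = true := segAll_join h765 conj4c770 rfl
  have h775 : segAll 640 140 fconj4 = true := segAll_join h770 conj4c775 rfl
  have h780 : segAll 640 145 fconj4 = true := segAll_join h775 conj4c780 rfl
  have h785 : segAll 640 150 fconj4 = true := segAll_join h780 conj4c785 rfl
  have h790 : segAll 640 155 fconj4 = true := segAll_join h785 conj4c790 rfl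
  have h795 : segAll 640 160 fconj4 = true := segAll_join h790 conj4c795 rfl
  exact h795

end Cfsg.Agent.H04.Chev.TE8
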