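import Cfsg.Agent.Lib.H04.Chev.Tab.E8

set_option autoImplicit false
set_option maxRecDepth 100000
set_option Elab.async false

open Cfsg.Lie

namespace Cfsg.Agent.H04.Chev.TE8

noncomputable def fconj5 : ℕ → Bool := fun k => checkConj chevE8 T (chevE8.simple (k / 240)) (k % 240)

theorem conj5c800 : segAll 800 5 fconj5 = true := by decide +kernel
theorem conj5c805 : segAll 805 5 fconj5 = true := by decide +kernel
theorem conj5c810 : segAll 810 5 fconj5 = true := by decide +kernel
theorem conj5c815 : segAll 815 5 fconj5 = true := by decide +kernel
theorem conj5c820 : segAll 820 5 fconj5 = true := by decide +kernel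
theorem conj5c825 : segAll 825 5 fconj5 = true := by decide +kernel
theorem conj5c830 : segAll 830 5 fconj5 = true := by decide +kernel
theorem conj5c835 : segAll 835 5 fconj5 = true := by decide +kernel
theorem conj5c840 : segAll 840 5 fconj5 = true := by decide +kernel
theorem conj5c845 : segAll 845 5 fconj5 = true := by decide +kernel
theorem conj5c850 : segAll 850 5 fconj5 = true := by decide +kernel
theorem conj5c855 : segAll 855 5 fconj5 = true := by decide +kernel
theorem conj5c860 : segAll 860 5 fconj5 = true := by decide +kernel
theorem conj5c865 : segAll 865 5 fconj5 = true := by decide +kernel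
theorem conj5c870 : segAll 870 5 fconj5 = true := by decide +kernel
theorem conj5c875 : segAll 875 5 fconj5 = true := by decide +kernel
theorem conj5c880 : segAll 880 5 fconj5 = true := by decide +kernel
theorem conj5c885 : segAll 885 5 fconj5 = true := by decide +kernel
theorem conj5c890 : segAll 890 5 fconj5 = true := by decide +kernel
theorem conj5c895 : segAll 895 5 fconj5 = true := by decide +kernel
theorem conj5c900 : segAll 900 5 fconj5 = true := by decide +kernel
theorem conj5c905 : segAll 905 5 fconj5 = true := by decide +kernel
theorem conj5c910 : segAll 910 5 fconj5 = true := by decide +kernel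
theorem conj5c915 : segAll 915 5 fconj5 = true := by decide +kernel
theorem conj5c920 : segAll 920 5 fconj5 = true := by decide +kernel
theorem conj5c925 : segAll 925 5 fconj5 = true := by decide +kernel
theorem conj5c930 : segAll 930 5 fconj5 = true := by decide +kernel
theorem conj5c935 : segAll 935 5 fconj5 = true := by decide +kernel
theorem conj5c940 : segAll 940 5 fconj5 = true := by decide +kernel
theorem conj5c945 : segAll 945 5 fconj5 = true := by decide +kernel
theorem conj5c950 : segAll 950 5 fconj5 = true := by decide +kernel
theorem conj5c955 : segAll 955 5 fconj5 = true := by decide +kernel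

theorem conj5 : segAll 800 160 (fun k => checkConj chevE8 T (chevE8.simple (k / 240)) (k % 240)) = true := by
  have h800 : segAll 800 5 fconj5 = true := conj5c800
  have h805 : segAll 800 10 fconj5 = true := segAll_join h800 conj5c805 rfl
  have h810 : segAll 800 15 fconj5 = true := segAll_join h805 conj5c810 rfl
  have h815 : segAll 800 20 fconj5 = true := segAll_join h810 conj5c815 rfl
  have h820 : segAll 800 25 fconj5 = true := segAll_join h815 conj5c820 rfl
  have h825 : segAll 800 30 fconj5 = true := segAll_join h820 conj5c825 rfl
  have h830 : segAll 800 35 fconj5 = true := segAll_join h825 conj5c830 rfl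
  have h835 : segAll 800 40 fconj5 = true := segAll_join h830 conj5c835 rfl
  have h840 : segAll 800 45 fconj5 = true := segAll_join h835 conj5c840 rfl
  have h845 : segAll 800 50 fconj5 = true := segAll_join h840 conj5c845 rfl
  have h850 : segAll 800 55 fconj5 = true := segAll_join h845 conj5c850 rfl
  have h855 : segAll 800 60 fconj5 = true := segAll_join h850 conj5c855 rfl
  have h860 : segAll 800 65 fconj5 = true := segAll_join h855 conj5c860 rfl
  have h865 : segAll 800 70 fconj5 = true := segAll_join h860 conj5c865 rfl
  have h870 : segAll 800 75 fconj5 = true := segAll_join h865 conj5c870 rfl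
  have h875 : segAll 800 80 fconj5 = true := segAll_join h870 conj5c875 rfl
  have h880 : segAll 800 85 fconj5 = true := segAll_join h875 conj5c880 rfl
  have h885 : segAll 800 90 fconj5 = true := segAll_join h880 conj5c885 rfl
  have h890 : segAll 800 95 fconj5 = true := segAll_join h885 conj5c890 rfl
  have h895 : segAll 800 100 fconj5 = true := segAll_join h890 conj5c895 rfl
  have h900 : segAll 800 105 fconj5 = true := segAll_join h895 conj5c900 rfl
  have h905 : segAll 800 110 fconj5 = true := segAll_join h900 conj5c905 rfl
  have h910 : segAll 800 115 fconj5 = true := segAll_join h905 conj5c910 rfl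
  have h915 : segAll 800 120 fconj5 = true := segAll_join h910 conj5c915 rfl
  have h920 : segAll 800 125 fconj5 = true := segAll_join h915 conj5c920 rfl
  have h925 : segAll 800 130 fconj5 = true := segAll_join h920 conj5c925 rfl
  have h930 : segAll 800 135 fconj5 = true := segAll_join h925 conj5c930 rfl
  have h935 : segAll 800 140 fconj5 = true := segAll_join h930 conj5c935 rfl
  have h940 : segAll 800 145 fconj5 = true := segAll_join h935 conj5c940 rfl
  have h945 : segAll 800 150 fconj5 = true := segAll_join h940 conj5c945 rfl
  have h950 : segAll 800 155 fconj5 = true := segAll_join h945 conj5c950 rfl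
  have h955 : segAll 800 160 fconj5 = true := segAll_join h950 conj5c955 rfl
  exact h955

end Cfsg.Agent.H04.Chev.TE8
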