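import Cfsg.Agent.Lib.H04.Chev.Tab.E8

set_option autoImplicit false
set_option maxRecDepth 100000
set_option Elab.async false

open Cfsg.Lie

namespace Cfsg.Agent.H04.Chev.TE8

noncomputable def fconj6 : ℕ → Bool := fun k => checkConj chevE8 T (chevE8.simple (k / 240)) (k % 240)

theorem conj6c960 : segAll 960 5 fconj6 = true := by decide +kernel
theorem conj6c965 : segAll 965 5 fconj6 = true := by decide +kernel
theorem conj6c970 : segAll 970 5 fconj6 = true := by decide +kernel
theorem conj6c975 : segAll 975 5 fconj6 = true := by decide +kernel
theorem conj6c980 : segAll 980 5 fconj6 = true := by decide +kernel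
theorem conj6c985 : segAll 985 5 fconj6 = true := by decide +kernel
theorem conj6c990 : segAll 990 5 fconj6 = true := by decide +kernel
theorem conj6c995 : segAll 995 5 fconj6 = true := by decide +kernel
theorem conj6c1000 : segAll 1000 5 fconj6 = true := by decide +kernel
theorem conj6c1005 : segAll 1005 5 fconj6 = true := by decide +kernel
theorem conj6c1010 : segAll 1010 5 fconj6 = true := by decide +kernel
theorem conj6c1015 : segAll 1015 5 fconj6 = true := by decide +kernel
theorem conj6c1020 : segAll 1020 5 fconj6 = true := by decide +kernel
theorem conj6c1025 : segAll 1025 5 fconj6 = true := by decide +kernel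
theorem conj6c1030 : segAll 1030 5 fconj6 = true := by decide +kernel
theorem conj6c1035 : segAll 1035 5 fconj6 = true := by decide +kernel
theorem conj6c1040 : segAll 1040 5 fconj6 = true := by decide +kernel
theorem conj6c1045 : segAll 1045 5 fconj6 = true := by decide +kernel
theorem conj6c1050 : segAll 1050 5 fconj6 = true := by decide +kernel
theorem conj6c1055 : segAll 1055 5 fconj6 = true := by decide +kernel
theorem conj6c1060 : segAll 1060 5 fconj6 = true := by decide +kernel
theorem conj6c1065 : segAll 1065 5 fconj6 = true := by decide +kernel
theorem conj6c1070 : segAll 1070 5 fconj6 = true := by decide +kernel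
theorem conj6c1075 : segAll 1075 5 fconj6 = true := by decide +kernel
theorem conj6c1080 : segAll 1080 5 fconj6 = true := by decide +kernel
theorem conj6c1085 : segAll 1085 5 fconj6 = true := by decide +kernel
theorem conj6c1090 : segAll 1090 5 fconj6 = true := by decide +kernel
theorem conj6c1095 : segAll 1095 5 fconj6 = true := by decide +kernel
theorem conj6c1100 : segAll 1100 5 fconj6 = true := by decide +kernel
theorem conj6c1105 : segAll 1105 5 fconj6 = true := by decide +kernel
theorem conj6c1110 : segAll 1110 5 fconj6 = true := by decide +kernel
theorem conj6c1115 : segAll 1115 5 fconj6 = true := by decide +kernel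

theorem conj6 : segAll 960 160 (fun k => checkConj chevE8 T (chevE8.simple (k / 240)) (k % 240)) = true := by
  have h960 : segAll 960 5 fconj6 = true := conj6c960
  have h965 : segAll 960 10 fconj6 = true := segAll_join h960 conj6c965 rfl
  have h970 : segAll 960 15 fconj6 = true := segAll_join h965 conj6c970 rfl
  have h975 : segAll 960 20 fconj6 = true := segAll_join h970 conj6c975 rfl
  have h980 : segAll 960 25 fconj6 = true := segAll_join h975 conj6c980 rfl
  have h985 : segAll 960 30 fconj6 = true := segAll_join h980 conj6c985 rfl
  have h990 : segAll 960 35 fconj6 = true := segAll_join h985 conj6c990 rfl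
  have h995 : segAll 960 40 fconj6 = true := segAll_join h990 conj6c995 rfl
  have h1000 : segAll 960 45 fconj6 = true := segAll_join h995 conj6c1000 rfl
  have h1005 : segAll 960 50 fconj6 = true := segAll_join h1000 conj6c1005 rfl
  have h1010 : segAll 960 55 fconj6 = true := segAll_join h1005 conj6c1010 rfl
  have h1015 : segAll 960 60 fconj6 = true := segAll_join h1010 conj6c1015 rfl
  have h1020 : segAll 960 65 fconj6 = true := segAll_join h1015 conj6c1020 rfl
  have h1025 : segAll 960 70 fconj6 = true := segAll_join h1020 conj6c1025 rfl
  have h1030 : segAll 960 75 fconj6 = true := segAll_join h1025 conj6c1030 rfl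
  have h1035 : segAll 960 80 fconj6 = true := segAll_join h1030 conj6c1035 rfl
  have h1040 : segAll 960 85 fconj6 = true := segAll_join h1035 conj6c1040 rfl
  have h1045 : segAll 960 90 fconj6 = true := segAll_join h1040 conj6c1045 rfl
  have h1050 : segAll 960 95 fconj6 = true := segAll_join h1045 conj6c1050 rfl
  have h1055 : segAll 960 100 fconj6 = true := segAll_join h1050 conj6c1055 rfl
  have h1060 : segAll 960 105 fconj6 = true := segAll_join h1055 conj6c1060 rfl
  have h1065 : segAll 960 110 fconj6 = true := segAll_join h1060 conj6c1065 rfl
  have h1070 : segAll 960 115 fconj6 = true := segAll_join h1065 conj6c1070 rfl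
  have h1075 : segAll 960 120 fconj6 = true := segAll_join h1070 conj6c1075 rfl
  have h1080 : segAll 960 125 fconj6 = true := segAll_join h1075 conj6c1080 rfl
  have h1085 : segAll 960 130 fconj6 = true := segAll_join h1080 conj6c1085 rfl
  have h1090 : segAll 960 135 fconj6 = true := segAll_join h1085 conj6c1090 rfl
  have h1095 : segAll 960 140 fconj6 = true := segAll_join h1090 conj6c1095 rfl
  have h1100 : segAll 960 145 fconj6 = true := segAll_join h1095 conj6c1100 rfl
  have h1105 : segAll 960 150 fconj6 = true := segAll_join h1100 conj6c1105 rfl
  have h1110 : segAll 960 155 fconj6 = true := segAll_join h1105 conj6c1110 rfl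
  have h1115 : segAll 960 160 fconj6 = true := segAll_join h1110 conj6c1115 rfl
  exact h1115

end Cfsg.Agent.H04.Chev.TE8
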