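import Cfsg.Agent.Lib.H04.Chev.Tab.E8

set_option autoImplicit false
set_option maxRecDepth 100000
set_option Elab.async false

open Cfsg.Lie

namespace Cfsg.Agent.H04.Chev.TE8

noncomputable def fconj7 : ℕ → Bool := fun k => checkConj chevE8 T (chevE8.simple (k / 240)) (k % 240)

theorem conj7c1120 : segAll 1120 5 fconj7 = true := by decide +kernel
theorem conj7c1125 : segAll 1125 5 fconj7 = true := by decide +kernel
theorem conj7c1130 : segAll 1130 5 fconj7 = true := by decide +kernel
theorem conj7c1135 : segAll 1135 5 fconj7 = true := by decide +kernel
theorem conj7c1140 : segAll 1140 5 fconj7 = true := by decide +kernel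
theorem conj7c1145 : segAll 1145 5 fconj7 = true := by decide +kernel
theorem conj7c1150 : segAll 1150 5 fconj7 = true := by decide +kernel
theorem conj7c1155 : segAll 1155 5 fconj7 = true := by decide +kernel
theorem conj7c1160 : segAll 1160 5 fconj7 = true := by decide +kernel
theorem conj7c1165 : segAll 1165 5 fconj7 = true := by decide +kernel
theorem conj7c1170 : segAll 1170 5 fconj7 = true := by decide +kernel
theorem conj7c1175 : segAll 1175 5 fconj7 = true := by decide +kernel
theorem conj7c1180 : segAll 1180 5 fconj7 = true := by decide +kernel
theorem conj7c1185 : segAll 1185 5 fconj7 = true := by decide +kernel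
theorem conj7c1190 : segAll 1190 5 fconj7 = true := by decide +kernel
theorem conj7c1195 : segAll 1195 5 fconj7 = true := by decide +kernel
theorem conj7c1200 : segAll 1200 5 fconj7 = true := by decide +kernel
theorem conj7c1205 : segAll 1205 5 fconj7 = true := by decide +kernel
theorem conj7c1210 : segAll 1210 5 fconj7 = true := by decide +kernel
theorem conj7c1215 : segAll 1215 5 fconj7 = true := by decide +kernel
theorem conj7c1220 : segAll 1220 5 fconj7 = true := by decide +kernel
theorem conj7c1225 : segAll 1225 5 fconj7 = true := by decide +kernel
theorem conj7c1230 : segAll 1230 5 fconj7 = true := by decide +kernel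
theorem conj7c1235 : segAll 1235 5 fconj7 = true := by decide +kernel
theorem conj7c1240 : segAll 1240 5 fconj7 = true := by decide +kernel
theorem conj7c1245 : segAll 1245 5 fconj7 = true := by decide +kernel
theorem conj7c1250 : segAll 1250 5 fconj7 = true := by decide +kernel
theorem conj7c1255 : segAll 1255 5 fconj7 = true := by decide +kernel
theorem conj7c1260 : segAll 1260 5 fconj7 = true := by decide +kernel
theorem conj7c1265 : segAll 1265 5 fconj7 = true := by decide +kernel
theorem conj7c1270 : segAll 1270 5 fconj7 = true := by decide +kernel
theorem conj7c1275 : segAll 1275 5 fconj7 = true := by decide +kernel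

theorem conj7 : segAll 1120 160 (fun k => checkConj chevE8 T (chevE8.simple (k / 240)) (k % 240)) = true := by
  have h1120 : segAll 1120 5 fconj7 = true := conj7c1120
  have h1125 : segAll 1120 10 fconj7 = true := segAll_join h1120 conj7c1125 rfl
  have h1130 : segAll 1120 15 fconj7 = true := segAll_join h1125 conj7c1130 rfl
  have h1135 : segAll 1120 20 fconj7 = true := segAll_join h1130 conj7c1135 rfl
  have h1140 : segAll 1120 25 fconj7 = true := segAll_join h1135 conj7c1140 rfl
  have h1145 : segAll 1120 30 fconj7 = true := segAll_join h1140 conj7c1145 rfl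
  have h1150 : segAll 1120 35 fconj7 = true := segAll_join h1145 conj7c1150 rfl
  have h1155 : segAll 1120 40 fconj7 = true := segAll_join h1150 conj7c1155 rfl
  have h1160 : segAll 1120 45 fconj7 = true := segAll_join h1155 conj7c1160 rfl
  have h1165 : segAll 1120 50 fconj7 = true := segAll_join h1160 conj7c1165 rfl
  have h1170 : segAll 1120 55 fconj7 = true := segAll_join h1165 conj7c1170 rfl
  have h1175 : segAll 1120 60 fconj7 = true := segAll_join h1170 conj7c1175 rfl
  have h1180 : segAll 1120 65 fconj7 = true := segAll_join h1175 conj7c1180 rfl
  have h1185 : segAll 1120 70 fconj7 = true := segAll_join h1180 conj7c1185 rfl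
  have h1190 : segAll 1120 75 fconj7 = true := segAll_join h1185 conj7c1190 rfl
  have h1195 : segAll 1120 80 fconj7 = true := segAll_join h1190 conj7c1195 rfl
  have h1200 : segAll 1120 85 fconj7 = true := segAll_join h1195 conj7c1200 rfl
  have h1205 : segAll 1120 90 fconj7 = true := segAll_join h1200 conj7c1205 rfl
  have h1210 : segAll 1120 95 fconj7 = true := segAll_join h1205 conj7c1210 rfl
  have h1215 : segAll 1120 100 fconj7 = true := segAll_join h1210 conj7c1215 rfl
  have h1220 : segAll 1120 105 fconj7 = true := segAll_join h1215 conj7c1220 rfl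
  have h1225 : segAll 1120 110 fconj7 = true := segAll_join h1220 conj7c1225 rfl
  have h1230 : segAll 1120 115 fconj7 = true := segAll_join h1225 conj7c1230 rfl
  have h1235 : segAll 1120 120 fconj7 = true := segAll_join h1230 conj7c1235 rfl
  have h1240 : segAll 1120 125 fconj7 = true := segAll_join h1235 conj7c1240 rfl
  have h1245 : segAll 1120 130 fconj7 = true := segAll_join h1240 conj7c1245 rfl
  have h1250 : segAll 1120 135 fconj7 = true := segAll_join h1245 conj7c1250 rfl
  have h1255 : segAll 1120 140 fconj7 = true := segAll_join h1250 conj7c1255 rfl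
  have h1260 : segAll 1120 145 fconj7 = true := segAll_join h1255 conj7c1260 rfl
  have h1265 : segAll 1120 150 fconj7 = true := segAll_join h1260 conj7c1265 rfl
  have h1270 : segAll 1120 155 fconj7 = true := segAll_join h1265 conj7c1270 rfl
  have h1275 : segAll 1120 160 fconj7 = true := segAll_join h1270 conj7c1275 rfl
  exact h1275

end Cfsg.Agent.H04.Chev.TE8
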