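import Cfsg.Agent.Lib.H04.Chev.Tab.E8

set_option autoImplicit false
set_option maxRecDepth 100000
set_option Elab.async false

open Cfsg.Lie

namespace Cfsg.Agent.H04.Chev.TE8

noncomputable def fconj9 : ℕ → Bool := fun k => checkConj chevE8 T (chevE8.simple (k / 240)) (k % 240)

theorem conj9c1440 : segAll 1440 5 fconj9 = true := by decide +kernel
theorem conj9c1445 : segAll 1445 5 fconj9 = true := by decide +kernel
theorem conj9c1450 : segAll 1450 5 fconj9 = true := by decide +kernel
theorem conj9c1455 : segAll 1455 5 fconj9 = true := by decide +kernel
theorem conj9c1460 : segAll 1460 5 fconj9 = true := by decide +kernel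
theorem conj9c1465 : segAll 1465 5 fconj9 = true := by decide +kernel
theorem conj9c1470 : segAll 1470 5 fconj9 = true := by decide +kernel
theorem conj9c1475 : segAll 1475 5 fconj9 = true := by decide +kernel
theorem conj9c1480 : segAll 1480 5 fconj9 = true := by decide +kernel
theorem conj9c1485 : segAll 1485 5 fconj9 = true := by decide +kernel
theorem conj9c1490 : segAll 1490 5 fconj9 = true := by decide +kernel
theorem conj9c1495 : segAll 1495 5 fconj9 = true := by decide +kernel
theorem conj9c1500 : segAll 1500 5 fconj9 = true := by decide +kernel
theorem conj9c1505 : segAll 1505 5 fconj9 = true := by decide +kernel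
theorem conj9c1510 : segAll 1510 5 fconj9 = true := by decide +kernel
theorem conj9c1515 : segAll 1515 5 fconj9 = true := by decide +kernel
theorem conj9c1520 : segAll 1520 5 fconj9 = true := by decide +kernel
theorem conj9c1525 : segAll 1525 5 fconj9 = true := by decide +kernel
theorem conj9c1530 : segAll 1530 5 fconj9 = true := by decide +kernel
theorem conj9c1535 : segAll 1535 5 fconj9 = true := by decide +kernel
theorem conj9c1540 : segAll 1540 5 fconj9 = true := by decide +kernel
theorem conj9c1545 : segAll 1545 5 fconj9 = true := by decide +kernel
theorem conj9c1550 : segAll 1550 5 fconj9 = true := by decide +kernel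
theorem conj9c1555 : segAll 1555 5 fconj9 = true := by decide +kernel
theorem conj9c1560 : segAll 1560 5 fconj9 = true := by decide +kernel
theorem conj9c1565 : segAll 1565 5 fconj9 = true := by decide +kernel
theorem conj9c1570 : segAll 1570 5 fconj9 = true := by decide +kernel
theorem conj9c1575 : segAll 1575 5 fconj9 = true := by decide +kernel
theorem conj9c1580 : segAll 1580 5 fconj9 = true := by decide +kernel
theorem conj9c1585 : segAll 1585 5 fconj9 = true := by decide +kernel
theorem conj9c1590 : segAll 1590 5 fconj9 = true := by decide +kernel
theorem conj9c1595 : segAll 1595 5 fconj9 = true := by decide +kernel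

theorem conj9 : segAll 1440 160 (fun k => checkConj chevE8 T (chevE8.simple (k / 240)) (k % 240)) = true := by
  have h1440 : segAll 1440 5 fconj9 = true := conj9c1440
  have h1445 : segAll 1440 10 fconj9 = true := segAll_join h1440 conj9c1445 rfl
  have h1450 : segAll 1440 15 fconj9 = true := segAll_join h1445 conj9c1450 rfl
  have h1455 : segAll 1440 20 fconj9 = true := segAll_join h1450 conj9c1455 rfl
  have h1460 : segAll 1440 25 fconj9 = true := segAll_join h1455 conj9c1460 rfl
  have h1465 : segAll 1440 30 fconj9 = true := segAll_join h1460 conj9c1465 rfl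
  have h1470 : segAll 1440 35 fconj9 = true := segAll_join h1465 conj9c1470 rfl
  have h1475 : segAll 1440 40 fconj9 = true := segAll_join h1470 conj9c1475 rfl
  have h1480 : segAll 1440 45 fconj9 = true := segAll_join h1475 conj9c1480 rfl
  have h1485 : segAll 1440 50 fconj9 = true := segAll_join h1480 conj9c1485 rfl
  have h1490 : segAll 1440 55 fconj9 = true := segAll_join h1485 conj9c1490 rfl
  have h1495 : segAll 1440 60 fconj9 = true := segAll_join h1490 conj9c1495 rfl
  have h1500 : segAll 1440 65 fconj9 = true := segAll_join h1495 conj9c1500 rfl
  have h1505 : segAll 1440 70 fconj9 = true := segAll_join h1500 conj9c1505 rfl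
  have h1510 : segAll 1440 75 fconj9 = true := segAll_join h1505 conj9c1510 rfl
  have h1515 : segAll 1440 80 fconj9 = true := segAll_join h1510 conj9c1515 rfl
  have h1520 : segAll 1440 85 fconj9 = true := segAll_join h1515 conj9c1520 rfl
  have h1525 : segAll 1440 90 fconj9 = true := segAll_join h1520 conj9c1525 rfl
  have h1530 : segAll 1440 95 fconj9 = true := segAll_join h1525 conj9c1530 rfl
  have h1535 : segAll 1440 100 fconj9 = true := segAll_join h1530 conj9c1535 rfl
  have h1540 : segAll 1440 105 fconj9 = true := segAll_join h1535 conj9c1540 rfl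
  have h1545 : segAll 1440 110 fconj9 = true := segAll_join h1540 conj9c1545 rfl
  have h1550 : segAll 1440 115 fconj9 = true := segAll_join h1545 conj9c1550 rfl
  have h1555 : segAll 1440 120 fconj9 = true := segAll_join h1550 conj9c1555 rfl
  have h1560 : segAll 1440 125 fconj9 = true := segAll_join h1555 conj9c1560 rfl
  have h1565 : segAll 1440 130 fconj9 = true := segAll_join h1560 conj9c1565 rfl
  have h1570 : segAll 1440 135 fconj9 = true := segAll_join h1565 conj9c1570 rfl
  have h1575 : segAll 1440 140 fconj9 = true := segAll_join h1570 conj9c1575 rfl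
  have h1580 : segAll 1440 145 fconj9 = true := segAll_join h1575 conj9c1580 rfl
  have h1585 : segAll 1440 150 fconj9 = true := segAll_join h1580 conj9c1585 rfl
  have h1590 : segAll 1440 155 fconj9 = true := segAll_join h1585 conj9c1590 rfl
  have h1595 : segAll 1440 160 fconj9 = true := segAll_join h1590 conj9c1595 rfl
  exact h1595

end Cfsg.Agent.H04.Chev.TE8
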