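import Cfsg.Agent.Lib.H04.Chev.Tab.E6_c3
import Cfsg.Agent.Lib.H04.Chev.ChainDefs
import Cfsg.Prelude.Def_ChevStructure
import Mathlib.GroupTheory.Coxeter.Matrix

/-! Generated: chains of parabolic subgroups of the Weyl group for the type E6. -/

set_option autoImplicit false
set_option maxRecDepth 100000
set_option Elab.async false

open Cfsg.Lie

namespace Cfsg.Agent.H04.Chev.TE6

/-- the chain -/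
def steps : List (ℕ × List Row) := [
  (4,[⟨[],[32,32,32,32,33,32],[1]⟩,⟨[4],[32,32,32,33,31,33],[0]⟩]),
  (3,[⟨[],[32,32,32,33,32,32],[1,0]⟩,⟨[3],[32,33,33,31,33,32],[0,2]⟩,⟨[3,4],[32,33,33,32,31,33],[2,1]⟩]),
  (2,[⟨[],[32,32,33,32,32,32],[1,0,0]⟩,⟨[2],[33,32,31,33,32,32],[0,2,1]⟩,⟨[2,3],[33,33,32,31,33,32],[2,1,3]⟩,⟨[2,3,4],[33,33,32,32,31,33],[3,3,2]⟩]),
  (1,[⟨[1],[32,31,32,33,32,32],[3,0,1,0]⟩,⟨[1,3],[32,32,33,31,33,32],[1,5,0,2]⟩,⟨[1,3,4],[32,32,33,32,31,33],[2,6,2,1]⟩,⟨[],[32,33,32,32,32,32],[0,3,3,3]⟩,⟨[1,3,2,4,3,1],[33,31,32,32,32,33],[7,4,4,4]⟩,⟨[1,3,2],[33,32,31,32,33,32],[5,1,5,6]⟩,⟨[1,3,2,4],[33,32,31,33,31,33],[6,2,7,5]⟩,⟨[1,3,2,4,3],[33,33,32,31,32,33],[4,7,6,7]⟩]),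
  (5,[⟨[5,4,3,1],[32,31,33,32,32,32],[0,4,5,0,0]⟩,⟨[],[32,32,32,32,32,33],[2,1,1,1,1]⟩,⟨[5],[32,32,32,32,33,31],[1,2,2,2,3]⟩,⟨[5,4],[32,32,32,33,31,32],[3,3,3,4,2]⟩,⟨[5,4,3],[32,33,33,31,32,32],[4,0,9,3,4]⟩,⟨[5,4,3,1,2],[33,31,31,33,32,32],[5,9,0,6,5]⟩,⟨[5,4,3,1,2,3],[33,32,32,31,33,32],[6,6,6,5,7]⟩,⟨[5,4,3,1,2,3,4],[33,32,32,32,31,33],[8,7,7,7,6]⟩,⟨[5,4,3,1,2,3,4,5],[33,32,32,32,32,31],[7,8,8,8,8]⟩,⟨[5,4,3,2],[33,33,31,32,32,32],[9,5,4,9,9]⟩]),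
  (0,[⟨[0,2,3,1,4,5,3,2,0,4,3,1],[31,31,33,32,32,32],[21,0,5,6,0,0]⟩,⟨[0,2,3,1,4,3,2,0],[31,32,32,32,32,33],[22,2,1,1,1,1]⟩,⟨[0,2,3,1,4,5,3,2,0],[31,32,32,32,33,31],[23,1,2,2,2,3]⟩,⟨[0,2,3,1,4,5,3,2,0,4],[31,32,32,33,31,32],[24,3,3,3,5,2]⟩,⟨[0],[31,32,33,32,32,32],[25,4,4,10,4,4]⟩,⟨[0,2,3,1,4,5,3,2,0,4,3],[31,33,33,31,32,32],[26,5,0,17,3,5]⟩,⟨[0,2,3,1,4,5,3,2,0,4,3,1,2],[32,31,31,33,32,32],[6,6,17,0,11,6]⟩,⟨[0,2,3,1],[32,31,32,32,33,32],[7,7,18,7,7,8]⟩,⟨[0,2,3,1,4],[32,31,32,33,31,33],[8,9,19,8,14,7]⟩,⟨[0,2,3,1,4,5],[32,31,32,33,32,31],[9,8,20,9,15,9]⟩,⟨[0,2],[32,32,31,33,32,32],[10,10,10,4,18,10]⟩,⟨[0,2,3,1,4,5,3,2,0,4,3,1,2,3],[32,32,32,31,33,32],[11,11,11,11,6,12]⟩,⟨[0,2,3,1,4,5,3,2,0,4,3,1,2,3,4],[32,32,32,32,31,33],[12,13,12,12,12,11]⟩,⟨[0,2,3,1,4,5,3,2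,0,4,3,1,2,3,4,5],[32,32,32,32,32,31],[13,12,13,13,13,13]⟩,⟨[0,2,3,1,4,3],[32,32,33,31,32,33],[14,15,14,22,8,14]⟩,⟨[0,2,3,1,4,5,3],[32,32,33,31,33,31],[15,14,15,23,9,16]⟩,⟨[0,2,3,1,4,5,3,4],[32,32,33,32,31,32],[16,16,16,24,16,15]⟩,⟨[0,2,3,1,4,5,3,2,0,4,3,2],[32,33,31,32,32,32],[17,17,6,5,17,17]⟩,⟨[0,2,3],[32,33,32,31,33,32],[18,18,7,18,10,19]⟩,⟨[0,2,3,4],[32,33,32,32,31,33],[19,20,8,19,19,18]⟩,⟨[0,2,3,4,5],[32,33,32,32,32,31],[20,19,9,20,20,20]⟩,⟨[0,2,3,1,4,5,3,2,4,3,1],[33,31,32,32,32,32],[0,21,26,21,21,21]⟩,⟨[0,2,3,1,4,3,2],[33,32,31,32,32,33],[1,23,22,14,22,22]⟩,⟨[0,2,3,1,4,5,3,2],[33,32,31,32,33,31],[2,22,23,15,23,24]⟩,⟨[0,2,3,1,4,5,3,2,4],[33,32,31,33,31,32],[3,24,24,16,26,23]⟩,⟨[],[33,32,32,32,32,32],[4,25,25,25,25,25]⟩,⟨[0,2,3,1,4,5,3,2,4,3],[33,33,32,31,32,32],[5,26,21,26,24,26]⟩])]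

theorem chainC : chainCheck chevE6 T U steps [] = true := by decide +kernel
theorem finalC : allRange (chevE6).rank (fun i => memL i (steps.map Prod.fst)) = true := by decide +kernel
theorem polyC : polyCheck (chevE6).rank steps [2, 5, 6, 8, 9, 12] := by decide +kernel
theorem coxC : ∀ a b : Fin 6, orderB chevE6 T [a.1, b.1] (CoxeterMatrix.E₆ a b) = true := by decide +kernel
theorem hC : orderB chevE6 T (List.range 6) 12 = true := by decide +kernel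
theorem cardC : (steps.map (fun st => (st.2.map fun r => 1 ^ r.word.length).sum)).prod = 51840 := by decide +kernel

end Cfsg.Agent.H04.Chev.TE6
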