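import Cfsg.Agent.Lib.H04.Chev.Tab.E7_c3
import Cfsg.Agent.Lib.H04.Chev.ChainDefs
import Cfsg.Prelude.Def_ChevStructure
import Mathlib.GroupTheory.Coxeter.Matrix

/-! Generated: chains of parabolic subgroups of the Weyl group for the type E7. -/

set_option autoImplicit false
set_option maxRecDepth 100000
set_option Elab.async false

open Cfsg.Lie

namespace Cfsg.Agent.H04.Chev.TE7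

/-- the chain -/
def steps : List (ℕ × List Row) := [
  (4,[⟨[],[32,32,32,32,33,32,32],[1]⟩,⟨[4],[32,32,32,33,31,33,32],[0]⟩]),
  (3,[⟨[],[32,32,32,33,32,32,32],[1,0]⟩,⟨[3],[32,33,33,31,33,32,32],[0,2]⟩,⟨[3,4],[32,33,33,32,31,33,32],[2,1]⟩]),
  (2,[⟨[],[32,32,33,32,32,32,32],[1,0,0]⟩,⟨[2],[33,32,31,33,32,32,32],[0,2,1]⟩,⟨[2,3],[33,33,32,31,33,32,32],[2,1,3]⟩,⟨[2,3,4],[33,33,32,32,31,33,32],[3,3,2]⟩]),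
  (1,[⟨[1],[32,31,32,33,32,32,32],[3,0,1,0]⟩,⟨[1,3],[32,32,33,31,33,32,32],[1,5,0,2]⟩,⟨[1,3,4],[32,32,33,32,31,33,32],[2,6,2,1]⟩,⟨[],[32,33,32,32,32,32,32],[0,3,3,3]⟩,⟨[1,3,2,4,3,1],[33,31,32,32,32,33,32],[7,4,4,4]⟩,⟨[1,3,2],[33,32,31,32,33,32,32],[5,1,5,6]⟩,⟨[1,3,2,4],[33,32,31,33,31,33,32],[6,2,7,5]⟩,⟨[1,3,2,4,3],[33,33,32,31,32,33,32],[4,7,6,7]⟩]),
  (5,[⟨[5,4,3,1],[32,31,33,32,32,32,33],[0,4,5,0,0]⟩,⟨[],[32,32,32,32,32,33,32],[2,1,1,1,1]⟩,⟨[5],[32,32,32,32,33,31,33],[1,2,2,2,3]⟩,⟨[5,4],[32,32,32,33,31,32,33],[3,3,3,4,2]⟩,⟨[5,4,3],[32,33,33,31,32,32,33],[4,0,9,3,4]⟩,⟨[5,4,3,1,2],[33,31,31,33,32,32,33],[5,9,0,6,5]⟩,⟨[5,4,3,1,2,3],[33,32,32,31,33,32,33],[6,6,6,5,7]⟩,⟨[5,4,3,1,2,3,4],[33,32,32,32,31,33,33],[8,7,7,7,6]⟩,⟨[5,4,3,1,2,3,4,5],[33,32,32,32,32,31,34],[7,8,8,8,8]⟩,⟨[5,4,3,2],[33,33,31,32,32,32,33],[9,5,4,9,9]⟩]),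
  (0,[⟨[0,2,3,1,4,5,3,2,0,4,3,1],[31,31,33,32,32,32,33],[21,0,5,6,0,0]⟩,⟨[0,2,3,1,4,3,2,0],[31,32,32,32,32,33,32],[22,2,1,1,1,1]⟩,⟨[0,2,3,1,4,5,3,2,0],[31,32,32,32,33,31,33],[23,1,2,2,2,3]⟩,⟨[0,2,3,1,4,5,3,2,0,4],[31,32,32,33,31,32,33],[24,3,3,3,5,2]⟩,⟨[0],[31,32,33,32,32,32,32],[25,4,4,10,4,4]⟩,⟨[0,2,3,1,4,5,3,2,0,4,3],[31,33,33,31,32,32,33],[26,5,0,17,3,5]⟩,⟨[0,2,3,1,4,5,3,2,0,4,3,1,2],[32,31,31,33,32,32,33],[6,6,17,0,11,6]⟩,⟨[0,2,3,1],[32,31,32,32,33,32,32],[7,7,18,7,7,8]⟩,⟨[0,2,3,1,4],[32,31,32,33,31,33,32],[8,9,19,8,14,7]⟩,⟨[0,2,3,1,4,5],[32,31,32,33,32,31,33],[9,8,20,9,15,9]⟩,⟨[0,2],[32,32,31,33,32,32,32],[10,10,10,4,18,10]⟩,⟨[0,2,3,1,4,5,3,2,0,4,3,1,2,3],[32,32,32,31,33,32,33],[11,11,11,11,6,12]⟩,⟨[0,2,3,1,4,5,3,2,0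,4,3,1,2,3,4],[32,32,32,32,31,33,33],[12,13,12,12,12,11]⟩,⟨[0,2,3,1,4,5,3,2,0,4,3,1,2,3,4,5],[32,32,32,32,32,31,34],[13,12,13,13,13,13]⟩,⟨[0,2,3,1,4,3],[32,32,33,31,32,33,32],[14,15,14,22,8,14]⟩,⟨[0,2,3,1,4,5,3],[32,32,33,31,33,31,33],[15,14,15,23,9,16]⟩,⟨[0,2,3,1,4,5,3,4],[32,32,33,32,31,32,33],[16,16,16,24,16,15]⟩,⟨[0,2,3,1,4,5,3,2,0,4,3,2],[32,33,31,32,32,32,33],[17,17,6,5,17,17]⟩,⟨[0,2,3],[32,33,32,31,33,32,32],[18,18,7,18,10,19]⟩,⟨[0,2,3,4],[32,33,32,32,31,33,32],[19,20,8,19,19,18]⟩,⟨[0,2,3,4,5],[32,33,32,32,32,31,33],[20,19,9,20,20,20]⟩,⟨[0,2,3,1,4,5,3,2,4,3,1],[33,31,32,32,32,32,33],[0,21,26,21,21,21]⟩,⟨[0,2,3,1,4,3,2],[33,32,31,32,32,33,32],[1,23,22,14,22,22]⟩,⟨[0,2,3,1,4,5,3,2],[33,32,31,32,33,31,33],[2,22,23,15,23,24]⟩,⟨[0,2,3,1,4,5,3,2,4],[33,32,31,33,31,32,33],[3,24,24,16,26,23]⟩,⟨[],[33,32,32,32,32,32,32],[4,25,25,25,25,25]⟩,⟨[0,2,3,1,4,5,3,2,4,3],[33,33,32,31,32,32,33],[5,26,21,26,24,26]⟩]),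
  (6,[⟨[6,5,4,3,1,2,0],[31,31,32,33,32,32,32],[0,44,0,10,0,6,0]⟩,⟨[6,5,4,3,1,2,0,3,2,4,5,6,3,1,4,5,3,2,0,4,3,1],[31,31,33,32,32,32,32],[1,45,1,11,12,1,1]⟩,⟨[6,5,4,3,1,2,0,3,2,4,5,3,1,4,3,2,0],[31,32,32,32,32,32,33],[3,46,2,2,2,2,2]⟩,⟨[6,5,4,3,1,2,0,3,2,4,5,6,3,1,4,3,2,0],[31,32,32,32,32,33,31],[2,47,4,3,3,3,3]⟩,⟨[6,5,4,3,1,2,0,3,2,4,5,6,3,1,4,5,3,2,0],[31,32,32,32,33,31,32],[4,48,3,4,4,4,5]⟩,⟨[6,5,4,3,1,2,0,3,2,4,5,6,3,1,4,5,3,2,0,4],[31,32,32,33,31,32,32],[5,49,5,5,5,11,4]⟩,⟨[6,5,4,3,1,2,0,3],[31,32,33,31,33,32,32],[6,50,6,6,20,0,7]⟩,⟨[6,5,4,3,1,2,0,3,4],[31,32,33,32,31,33,32],[7,51,8,7,21,7,6]⟩,⟨[6,5,4,3,1,2,0,3,4,5],[31,32,33,32,32,31,33],[9,52,7,8,22,8,8]⟩,⟨[6,5,4,3,1,2,0,3,4,5,6],[31,32,33,32,32,32,31],[8,53,9,9,23,9,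9]⟩,⟨[6,5,4,3,2,0],[31,33,32,32,32,32,32],[10,54,10,0,10,10,10]⟩,⟨[6,5,4,3,1,2,0,3,2,4,5,6,3,1,4,5,3,2,0,4,3],[31,33,33,31,32,32,32],[11,55,11,1,36,5,11]⟩,⟨[6,5,4,3,1,2,0,3,2,4,5,6,3,1,4,5,3,2,0,4,3,1,2],[32,31,31,33,32,32,32],[12,12,12,36,1,24,12]⟩,⟨[6,5,4,3,1,2,0,3,2,4,3,1],[32,31,32,32,32,33,32],[13,13,14,37,13,13,13]⟩,⟨[6,5,4,3,1,2,0,3,2,4,5,3,1],[32,31,32,32,33,31,33],[15,14,13,38,14,14,16]⟩,⟨[6,5,4,3,1,2,0,3,2,4,5,6,3,1],[32,31,32,32,33,32,31],[14,15,15,39,15,15,17]⟩,⟨[6,5,4,3,1,2,0,3,2,4,5,3,1,4],[32,31,32,33,31,32,33],[17,16,16,40,16,32,14]⟩,⟨[6,5,4,3,1,2,0,3,2,4,5,6,3,1,4],[32,31,32,33,31,33,31],[16,17,18,41,17,33,15]⟩,⟨[6,5,4,3,1,2,0,3,2,4,5,6,3,1,4,5],[32,31,32,33,32,31,32],[18,18,17,42,18,34,18]⟩,⟨[6,5,4,3,1],[3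2,31,33,32,32,32,32],[19,19,19,43,44,19,19]⟩,⟨[6,5,4,3,1,2,0,3,2],[32,32,31,32,33,32,32],[20,20,20,20,6,20,21]⟩,⟨[6,5,4,3,1,2,0,3,2,4],[32,32,31,33,31,33,32],[21,21,22,21,7,37,20]⟩,⟨[6,5,4,3,1,2,0,3,2,4,5],[32,32,31,33,32,31,33],[23,22,21,22,8,38,22]⟩,⟨[6,5,4,3,1,2,0,3,2,4,5,6],[32,32,31,33,32,32,31],[22,23,23,23,9,39,23]⟩,⟨[6,5,4,3,1,2,0,3,2,4,5,6,3,1,4,5,3,2,0,4,3,1,2,3],[32,32,32,31,33,32,32],[24,24,24,24,24,12,25]⟩,⟨[6,5,4,3,1,2,0,3,2,4,5,6,3,1,4,5,3,2,0,4,3,1,2,3,4],[32,32,32,32,31,33,32],[25,25,26,25,25,25,24]⟩,⟨[6,5,4,3,1,2,0,3,2,4,5,6,3,1,4,5,3,2,0,4,3,1,2,3,4,5],[32,32,32,32,32,31,33],[27,26,25,26,26,26,26]⟩,⟨[6,5,4,3,1,2,0,3,2,4,5,6,3,1,4,5,3,2,0,4,3,1,2,3,4,5,6],[32,32,32,32,32,32,31],[26,27,27,27,27,27,27]⟩,⟨[],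[32,32,32,32,32,32,33],[29,28,28,28,28,28,28]⟩,⟨[6],[32,32,32,32,32,33,31],[28,29,30,29,29,29,29]⟩,⟨[6,5],[32,32,32,32,33,31,32],[30,30,29,30,30,30,31]⟩,⟨[6,5,4],[32,32,32,33,31,32,32],[31,31,31,31,31,43,30]⟩,⟨[6,5,4,3,1,2,0,3,2,4,5,3,1,4,3],[32,32,33,31,32,32,33],[33,32,32,32,46,16,32]⟩,⟨[6,5,4,3,1,2,0,3,2,4,5,6,3,1,4,3],[32,32,33,31,32,33,31],[32,33,34,33,47,17,33]⟩,⟨[6,5,4,3,1,2,0,3,2,4,5,6,3,1,4,5,3],[32,32,33,31,33,31,32],[34,34,33,34,48,18,35]⟩,⟨[6,5,4,3,1,2,0,3,2,4,5,6,3,1,4,5,3,4],[32,32,33,32,31,32,32],[35,35,35,35,49,35,34]⟩,⟨[6,5,4,3,1,2,0,3,2,4,5,6,3,1,4,5,3,2,0,4,3,2],[32,33,31,32,32,32,32],[36,36,36,12,11,36,36]⟩,⟨[6,5,4,3,1,2,0,3,2,4,3],[32,33,32,31,32,33,32],[37,37,38,13,37,21,37]⟩,⟨[6,5,4,3,1,2,0,3,2,4,5,3]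,[32,33,32,31,33,31,33],[39,38,37,14,38,22,40]⟩,⟨[6,5,4,3,1,2,0,3,2,4,5,6,3],[32,33,32,31,33,32,31],[38,39,39,15,39,23,41]⟩,⟨[6,5,4,3,1,2,0,3,2,4,5,3,4],[32,33,32,32,31,32,33],[41,40,40,16,40,40,38]⟩,⟨[6,5,4,3,1,2,0,3,2,4,5,6,3,4],[32,33,32,32,31,33,31],[40,41,42,17,41,41,39]⟩,⟨[6,5,4,3,1,2,0,3,2,4,5,6,3,4,5],[32,33,32,32,32,31,32],[42,42,41,18,42,42,42]⟩,⟨[6,5,4,3],[32,33,33,31,32,32,32],[43,43,43,19,54,31,43]⟩,⟨[6,5,4,3,1,2],[33,31,31,33,32,32,32],[44,0,44,54,19,50,44]⟩,⟨[6,5,4,3,1,2,0,3,2,4,5,6,3,1,4,5,3,2,4,3,1],[33,31,32,32,32,32,32],[45,1,45,55,45,45,45]⟩,⟨[6,5,4,3,1,2,0,3,2,4,5,3,1,4,3,2],[33,32,31,32,32,32,33],[47,2,46,46,32,46,46]⟩,⟨[6,5,4,3,1,2,0,3,2,4,5,6,3,1,4,3,2],[33,32,31,32,32,33,31],[46,3,48,47,33,47,47]⟩,⟨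[6,5,4,3,1,2,0,3,2,4,5,6,3,1,4,5,3,2],[33,32,31,32,33,31,32],[48,4,47,48,34,48,49]⟩,⟨[6,5,4,3,1,2,0,3,2,4,5,6,3,1,4,5,3,2,4],[33,32,31,33,31,32,32],[49,5,49,49,35,55,48]⟩,⟨[6,5,4,3,1,2,3],[33,32,32,31,33,32,32],[50,6,50,50,50,44,51]⟩,⟨[6,5,4,3,1,2,3,4],[33,32,32,32,31,33,32],[51,7,52,51,51,51,50]⟩,⟨[6,5,4,3,1,2,3,4,5],[33,32,32,32,32,31,33],[53,8,51,52,52,52,52]⟩,⟨[6,5,4,3,1,2,3,4,5,6],[33,32,32,32,32,32,31],[52,9,53,53,53,53,53]⟩,⟨[6,5,4,3,2],[33,33,31,32,32,32,32],[54,10,54,44,43,54,54]⟩,⟨[6,5,4,3,1,2,0,3,2,4,5,6,3,1,4,5,3,2,4,3],[33,33,32,31,32,32,32],[55,11,55,45,55,49,55]⟩])]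

theorem chainC : chainCheck chevE7 T U steps [] = true := by decide +kernel
theorem finalC : allRange (chevE7).rank (fun i => memL i (steps.map Prod.fst)) = true := by decide +kernel
theorem polyC : polyCheck (chevE7).rank steps [2, 6, 8, 10, 12, 14, 18] := by decide +kernel
theorem coxC : ∀ a b : Fin 7, orderB chevE7 T [a.1, b.1] (CoxeterMatrix.E₇ a b) = true := by decide +kernel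
theorem hC : orderB chevE7 T (List.range 7) 18 = true := by decide +kernel
theorem cardC : (steps.map (fun st => (st.2.map fun r => 1 ^ r.word.length).sum)).prod = 2903040 := by decide +kernel

end Cfsg.Agent.H04.Chev.TE7
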