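import Cfsg.Agent.Lib.H04.Chev.Tab.E6
import Cfsg.Agent.Lib.H04.Chev.Defs3

/-! Generated tables for the type E6: coefficients of the roots. -/

set_option autoImplicit false
set_option maxRecDepth 100000
set_option Elab.async false

open Cfsg.Lie

namespace Cfsg.Agent.H04.Chev.TE6

/-- tables -/
noncomputable def U : Tabs3 :=
  ⟨NT.nd (NT.nd (NT.nd (NT.nd (NT.nd (NT.nd (NT.nd (NT.lf (nat_lit 0x1f1e1d1e1e1f)) (NT.lf (nat_lit 0x202122212121))) (NT.nd (NT.lf (nat_lit 0x20201f202020)) (NT.lf (nat_lit 0x0)))) (NT.nd (NT.nd (NT.lf (nat_lit 0x1f1e1e1f1f20)) (NT.lf (nat_lit 0x0))) (NT.nd (NT.lf (nat_lit 0x202121202120)) (NT.lf (nat_lit 0x0))))) (NT.nd (NT.nd (NT.nd (NT.lf (nat_lit 0x1f1f1f1f1f1f)) (NT.lf (nat_lit 0x202020202020))) (NT.nd (NT.lf (nat_lit 0x202121202020)) (NT.lf (nat_lit 0x0)))) (NT.nd (NT.nd (NT.lf (nat_lit 0x20201f201f20))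 (NT.lf (nat_lit 0x0))) (NT.nd (NT.lf (nat_lit 0x202020202021)) (NT.lf (nat_lit 0x0)))))) (NT.nd (NT.nd (NT.nd (NT.nd (NT.lf (nat_lit 0x201f1e1e1f1f)) (NT.lf (nat_lit 0x212122222121))) (NT.nd (NT.lf (nat_lit 0x212020202020)) (NT.lf (nat_lit 0x0)))) (NT.nd (NT.nd (NT.lf (nat_lit 0x201f1f1f1f20)) (NT.lf (nat_lit 0x0))) (NT.nd (NT.lf (nat_lit 0x212121212120)) (NT.lf (nat_lit 0x0))))) (NT.nd (NT.nd (NT.nd (NT.lf (nat_lit 0x201f1f1f201f)) (NT.lf (nat_lit 0x202020202020))) (NT.nd (NT.lf (nat_lit 0x202121212020)) (NT.lf (nat_lit 0x0)))) (NT.nd (NT.nd (NT.lf (nat_lit 0x20201f1f2020)) (NT.lf (nat_lit 0x0))) (NT.nd (NT.lf (nat_lit 0x212121212021)) (NT.lf (nat_lit 0x0))))))) (NT.nd (NT.nd (NT.nd (NT.nd (NT.nd (NT.lf (nat_lit 0x1f1e1e1e1f1f)) (NT.lf (nat_lit 0x212222212121))) (NT.nd (NT.lf (nat_lit 0x201f20202020)) (NT.lf (nat_lit 0x0)))) (NT.nd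 (NT.nd (NT.lf (nat_lit 0x201f1e1f1f20)) (NT.lf (nat_lit 0x0))) (NT.nd (NT.lf (nat_lit 0x202021212120)) (NT.lf (nat_lit 0x0))))) (NT.nd (NT.nd (NT.nd (NT.lf (nat_lit 0x20201f1f1f1f)) (NT.lf (nat_lit 0x202020202020))) (NT.nd (NT.lf (nat_lit 0x202020212020)) (NT.lf (nat_lit 0x0)))) (NT.nd (NT.nd (NT.lf (nat_lit 0x1f1f1f1f2020)) (NT.lf (nat_lit 0x0))) (NT.nd (NT.lf (nat_lit 0x202021212021)) (NT.lf (nat_lit 0x0)))))) (NT.nd (NT.nd (NT.nd (NT.nd (NT.lf (nat_lit 0x1f1f1e1f1f1f)) (NT.lf (nat_lit 0x212223222121))) (NT.nd (NT.lf (nat_lit 0x212120202020)) (NT.lf (nat_lit 0x0)))) (NT.nd (NT.nd (NT.lf (nat_lit 0x1f1f1f201f20)) (NT.lf (nat_lit 0x0))) (NT.nd (NT.lf (nat_lit 0x212122212120)) (NT.lf (nat_lit 0x0))))) (NT.nd (NT.nd (NT.nd (NT.lf (nat_lit 0x2020201f201f)) (NT.lf (nat_lit 0x0))) (NT.nd (NT.lf (nat_lit 0x202020202120)) (NT.lf (nat_lit 0x0))))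 (NT.nd (NT.nd (NT.lf (nat_lit 0x1f1f1f202020)) (NT.lf (nat_lit 0x0))) (NT.nd (NT.lf (nat_lit 0x202121212121)) (NT.lf (nat_lit 0x0)))))))) (NT.nd (NT.nd (NT.nd (NT.nd (NT.nd (NT.nd (NT.lf (nat_lit 0x1f1e1d1e1f1f)) (NT.lf (nat_lit 0x212122212121))) (NT.nd (NT.lf (nat_lit 0x1f1f20202020)) (NT.lf (nat_lit 0x0)))) (NT.nd (NT.nd (NT.lf (nat_lit 0x1f1f1e1f1f20)) (NT.lf (nat_lit 0x0))) (NT.nd (NT.lf (nat_lit 0x212121202120)) (NT.lf (nat_lit 0x0))))) (NT.nd (NT.nd (NT.nd (NT.lf (nat_lit 0x201f1f1f1f1f)) (NT.lf (nat_lit 0x202020202020))) (NT.nd (NT.lf (nat_lit 0x212121202020)) (NT.lf (nat_lit 0x0)))) (NT.nd (NT.nd (NT.lf (nat_lit 0x202020201f20)) (NT.lf (nat_lit 0x0))) (NT.nd (NT.lf (nat_lit 0x202020212021)) (NT.lf (nat_lit 0x0)))))) (NT.nd (NT.nd (NT.nd (NT.nd (NT.lf (nat_lit 0x1f1e1e1f1f1f)) (NT.lf (nat_lit 0x212222222121))) (NT.nd (NT.lf (nat_lit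 0x202120202020)) (NT.lf (nat_lit 0x0)))) (NT.nd (NT.nd (NT.lf (nat_lit 0x20201f1f1f20)) (NT.lf (nat_lit 0x0))) (NT.nd (NT.lf (nat_lit 0x202122212120)) (NT.lf (nat_lit 0x0))))) (NT.nd (NT.nd (NT.nd (NT.lf (nat_lit 0x20201f1f201f)) (NT.lf (nat_lit 0x202020202020))) (NT.nd (NT.lf (nat_lit 0x212121212020)) (NT.lf (nat_lit 0x0)))) (NT.nd (NT.nd (NT.lf (nat_lit 0x2020201f2020)) (NT.lf (nat_lit 0x0))) (NT.nd (NT.lf (nat_lit 0x202021212121)) (NT.lf (nat_lit 0x0))))))) (NT.nd (NT.nd (NT.nd (NT.nd (NT.nd (NT.lf (nat_lit 0x1f1f1e1e1f1f)) (NT.lf (nat_lit 0x202122222121))) (NT.nd (NT.lf (nat_lit 0x1f2020202020)) (NT.lf (nat_lit 0x0)))) (NT.nd (NT.nd (NT.lf (nat_lit 0x1f1f1f1f1f20)) (NT.lf (nat_lit 0x0))) (NT.nd (NT.lf (nat_lit 0x202121212120)) (NT.lf (nat_lit 0x0))))) (NT.nd (NT.nd (NT.nd (NT.lf (nat_lit 0x1f1f1f1f201f)) (NT.lf (nat_lit 0x202020202020)))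 (NT.nd (NT.lf (nat_lit 0x202021212020)) (NT.lf (nat_lit 0x0)))) (NT.nd (NT.nd (NT.lf (nat_lit 0x201f1f1f2020)) (NT.lf (nat_lit 0x0))) (NT.nd (NT.lf (nat_lit 0x202121212021)) (NT.lf (nat_lit 0x0)))))) (NT.nd (NT.nd (NT.nd (NT.nd (NT.lf (nat_lit 0x201f1e1f1f1f)) (NT.lf (nat_lit 0x212223222221))) (NT.nd (NT.lf (nat_lit 0x202021202020)) (NT.lf (nat_lit 0x0)))) (NT.nd (NT.nd (NT.lf (nat_lit 0x201f1f201f20)) (NT.lf (nat_lit 0x0))) (NT.nd (NT.lf (nat_lit 0x212222212120)) (NT.lf (nat_lit 0x0))))) (NT.nd (NT.nd (NT.nd (NT.lf (nat_lit 0x20202020201f)) (NT.lf (nat_lit 0x0))) (NT.nd (NT.lf (nat_lit 0x202021202120)) (NT.lf (nat_lit 0x0)))) (NT.nd (NT.nd (NT.lf (nat_lit 0x201f1f202020)) (NT.lf (nat_lit 0x0))) (NT.nd (NT.lf (nat_lit 0x212121212121)) (NT.lf (nat_lit 0x0)))))))),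
   [0, 1, 2, 0, 3, 1, 2, 0, 3, 2, 4, 3, 1, 2, 0, 3, 2, 4, 3, 1, 5, 4, 3, 1, 2, 0, 3, 2, 4, 3, 1, 5, 4, 3, 2, 0],
   [0, 2, 3, 1, 3, 4, 5, 4, 3, 2, 0]⟩

theorem cofc0 : segAll 0 36 (cofColRow chevE6 T U) = true := by decide +kernel
theorem cofc36 : segAll 36 36 (cofColRow chevE6 T U) = true := by decide +kernel
theorem kidx0 : segAll 0 72 (kIdxRow chevE6 T) = true := by decide +kernel
theorem rootr0 : segAll 0 72 (rootRow chevE6 U) = true := by decide +kernel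
theorem simpr0 : segAll 0 6 (simpleRow chevE6 T U) = true := by decide +kernel
theorem wrow0 : segAll 0 6 (wRow3 chevE6 T U) = true := by decide +kernel
theorem hgt36 : segAll 36 36 (heightRow chevE6 T U) = true := by decide +kernel
theorem sup236 : segAll 36 36 (support2Row chevE6 U) = true := by decide +kernel

theorem w0C : w0Check chevE6 T U = true := by decide +kernel
theorem walkC : walkCheck chevE6 T U = true := by decide +kernel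
theorem repsC : repsCheck chevE6 T = true := by decide +kernel

end Cfsg.Agent.H04.Chev.TE6
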