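import Cfsg.Agent.Lib.H04.Chev.Tab.E7
import Cfsg.Agent.Lib.H04.Chev.Defs3

/-! Generated tables for the type E7: coefficients of the roots. -/

set_option autoImplicit false
set_option maxRecDepth 100000
set_option Elab.async false

open Cfsg.Lie

namespace Cfsg.Agent.H04.Chev.TE7

/-- tables -/
noncomputable def U : Tabs3 :=
  ⟨NT.nd (NT.nd (NT.nd (NT.nd (NT.nd (NT.nd (NT.nd (NT.nd (NT.lf (nat_lit 0x1f1e1d1c1d1e1e)) (NT.lf (nat_lit 0x20202020202020))) (NT.nd (NT.lf (nat_lit 0x20212020202020)) (NT.lf (nat_lit 0x0)))) (NT.nd (NT.nd (NT.lf (nat_lit 0x2020202020201f)) (NT.lf (nat_lit 0x0))) (NT.nd (NT.lf (nat_lit 0x20202121212021)) (NT.lf (nat_lit 0x0))))) (NT.nd (NT.nd (NT.nd (NT.lf (nat_lit 0x20201f1e1e1f1f)) (NT.lf (nat_lit 0x0))) (NT.nd (NT.lf (nat_lit 0x20202121202120)) (NT.lf (nat_lit 0x0)))) (NT.nd (NT.nd (NT.lf (nat_lit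 0x1f1f1f1f1f2020)) (NT.lf (nat_lit 0x0))) (NT.nd (NT.lf (nat_lit 0x20212222222121)) (NT.lf (nat_lit 0x0)))))) (NT.nd (NT.nd (NT.nd (NT.nd (NT.lf (nat_lit 0x1f1e1e1d1e1f1f)) (NT.lf (nat_lit 0x0))) (NT.nd (NT.lf (nat_lit 0x21212121202020)) (NT.lf (nat_lit 0x0)))) (NT.nd (NT.nd (NT.lf (nat_lit 0x201f1f1f1f1f20)) (NT.lf (nat_lit 0x0))) (NT.nd (NT.lf (nat_lit 0x20212122212121)) (NT.lf (nat_lit 0x0))))) (NT.nd (NT.nd (NT.nd (NT.lf (nat_lit 0x201f1f1f1f1f1f)) (NT.lf (nat_lit 0x0))) (NT.nd (NT.lf (nat_lit 0x20212122212120)) (NT.lf (nat_lit 0x0)))) (NT.nd (NT.nd (NT.lf (nat_lit 0x2020201f202020)) (NT.lf (nat_lit 0x0))) (NT.nd (NT.lf (nat_lit 0x21212223222221)) (NT.lf (nat_lit 0x0))))))) (NT.nd (NT.nd (NT.nd (NT.nd (NT.nd (NT.lf (nat_lit 0x1f1e1e1d1e1e1f)) (NT.lf (nat_lit 0x20202020202020))) (NT.nd (NT.lf (nat_lit 0x21212120202020)) (NT.lf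 (nat_lit 0x0)))) (NT.nd (NT.nd (NT.lf (nat_lit 0x1f1f1f1e1f1f20)) (NT.lf (nat_lit 0x0))) (NT.nd (NT.lf (nat_lit 0x20202121212121)) (NT.lf (nat_lit 0x0))))) (NT.nd (NT.nd (NT.nd (NT.lf (nat_lit 0x1f1f1f1e1f1f1f)) (NT.lf (nat_lit 0x0))) (NT.nd (NT.lf (nat_lit 0x20202121212120)) (NT.lf (nat_lit 0x0)))) (NT.nd (NT.nd (NT.lf (nat_lit 0x202020201f2020)) (NT.lf (nat_lit 0x0))) (NT.nd (NT.lf (nat_lit 0x21212223222121)) (NT.lf (nat_lit 0x0)))))) (NT.nd (NT.nd (NT.nd (NT.nd (NT.lf (nat_lit 0x1f1f1e1e1e1f1f)) (NT.lf (nat_lit 0x0))) (NT.nd (NT.lf (nat_lit 0x20212121212020)) (NT.lf (nat_lit 0x0)))) (NT.nd (NT.nd (NT.lf (nat_lit 0x201f1f1f201f20)) (NT.lf (nat_lit 0x0))) (NT.nd (NT.lf (nat_lit 0x21222222212121)) (NT.lf (nat_lit 0x0))))) (NT.nd (NT.nd (NT.nd (NT.lf (nat_lit 0x201f1f1f1f201f)) (NT.lf (nat_lit 0x0))) (NT.nd (NT.lf (nat_lit 0x21222222212120))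 (NT.lf (nat_lit 0x0)))) (NT.nd (NT.nd (NT.lf (nat_lit 0x1f1f2020202020)) (NT.lf (nat_lit 0x0))) (NT.nd (NT.lf (nat_lit 0x21222324232221)) (NT.lf (nat_lit 0x0)))))))) (NT.nd (NT.nd (NT.nd (NT.nd (NT.nd (NT.nd (NT.lf (nat_lit 0x1f1e1d1c1e1e1f)) (NT.lf (nat_lit 0x20202020202020))) (NT.nd (NT.lf (nat_lit 0x20202120202020)) (NT.lf (nat_lit 0x0)))) (NT.nd (NT.nd (NT.lf (nat_lit 0x1f1f1e1e1f1f20)) (NT.lf (nat_lit 0x0))) (NT.nd (NT.lf (nat_lit 0x21212121212021)) (NT.lf (nat_lit 0x0))))) (NT.nd (NT.nd (NT.nd (NT.lf (nat_lit 0x1f1f1e1e1f1f1f)) (NT.lf (nat_lit 0x0))) (NT.nd (NT.lf (nat_lit 0x21212121202120)) (NT.lf (nat_lit 0x0)))) (NT.nd (NT.nd (NT.lf (nat_lit 0x20201f1f1f2020)) (NT.lf (nat_lit 0x0))) (NT.nd (NT.lf (nat_lit 0x21222222222121)) (NT.lf (nat_lit 0x0)))))) (NT.nd (NT.nd (NT.nd (NT.nd (NT.lf (nat_lit 0x201f1e1d1e1f1f)) (NT.lf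 (nat_lit 0x0))) (NT.nd (NT.lf (nat_lit 0x20202021212020)) (NT.lf (nat_lit 0x0)))) (NT.nd (NT.nd (NT.lf (nat_lit 0x2020201f1f1f20)) (NT.lf (nat_lit 0x0))) (NT.nd (NT.lf (nat_lit 0x20212222212121)) (NT.lf (nat_lit 0x0))))) (NT.nd (NT.nd (NT.nd (NT.lf (nat_lit 0x2020201f1f1f1f)) (NT.lf (nat_lit 0x0))) (NT.nd (NT.lf (nat_lit 0x20212222212120)) (NT.lf (nat_lit 0x0)))) (NT.nd (NT.nd (NT.lf (nat_lit 0x201f1f20202020)) (NT.lf (nat_lit 0x0))) (NT.nd (NT.lf (nat_lit 0x21222323222221)) (NT.lf (nat_lit 0x0))))))) (NT.nd (NT.nd (NT.nd (NT.nd (NT.nd (NT.lf (nat_lit 0x201f1e1d1e1e1f)) (NT.lf (nat_lit 0x0))) (NT.nd (NT.lf (nat_lit 0x20202121202020)) (NT.lf (nat_lit 0x0)))) (NT.nd (NT.nd (NT.lf (nat_lit 0x20201f1e1f1f20)) (NT.lf (nat_lit 0x0))) (NT.nd (NT.lf (nat_lit 0x21212121212121)) (NT.lf (nat_lit 0x0))))) (NT.nd (NT.nd (NT.nd (NT.lf (nat_lit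 0x20201f1e1f1f1f)) (NT.lf (nat_lit 0x0))) (NT.nd (NT.lf (nat_lit 0x21212121212120)) (NT.lf (nat_lit 0x0)))) (NT.nd (NT.nd (NT.lf (nat_lit 0x201f1f1f202020)) (NT.lf (nat_lit 0x0))) (NT.nd (NT.lf (nat_lit 0x21222323222121)) (NT.lf (nat_lit 0x0)))))) (NT.nd (NT.nd (NT.nd (NT.nd (NT.lf (nat_lit 0x1f1f1f1e1e1f1f)) (NT.lf (nat_lit 0x0))) (NT.nd (NT.lf (nat_lit 0x20202020202120)) (NT.lf (nat_lit 0x0)))) (NT.nd (NT.nd (NT.lf (nat_lit 0x2020201f201f20)) (NT.lf (nat_lit 0x0))) (NT.nd (NT.lf (nat_lit 0x20212122222121)) (NT.lf (nat_lit 0x0))))) (NT.nd (NT.nd (NT.nd (NT.lf (nat_lit 0x2020201f1f201f)) (NT.lf (nat_lit 0x0))) (NT.nd (NT.lf (nat_lit 0x20202020212021)) (NT.lf (nat_lit 0x0)))) (NT.nd (NT.nd (NT.lf (nat_lit 0x1f202020202020)) (NT.lf (nat_lit 0x0))) (NT.nd (NT.lf (nat_lit 0x20202020202020)) (NT.lf (nat_lit 0x0))))))))) (NT.nd (NT.nd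 (NT.nd (NT.nd (NT.nd (NT.nd (NT.nd (NT.lf (nat_lit 0x1f1e1d1c1d1e1f)) (NT.lf (nat_lit 0x20202020202020))) (NT.nd (NT.lf (nat_lit 0x21212020202020)) (NT.lf (nat_lit 0x0)))) (NT.nd (NT.nd (NT.lf (nat_lit 0x1f1e1e1e1f1f20)) (NT.lf (nat_lit 0x0))) (NT.nd (NT.lf (nat_lit 0x20212121212021)) (NT.lf (nat_lit 0x0))))) (NT.nd (NT.nd (NT.nd (NT.lf (nat_lit 0x1f1e1e1e1f1f1f)) (NT.lf (nat_lit 0x0))) (NT.nd (NT.lf (nat_lit 0x20212121202120)) (NT.lf (nat_lit 0x0)))) (NT.nd (NT.nd (NT.lf (nat_lit 0x201f1f1f1f2020)) (NT.lf (nat_lit 0x0))) (NT.nd (NT.lf (nat_lit 0x21212222222121)) (NT.lf (nat_lit 0x0)))))) (NT.nd (NT.nd (NT.nd (NT.nd (NT.lf (nat_lit 0x1f1f1e1d1e1f1f)) (NT.lf (nat_lit 0x0))) (NT.nd (NT.lf (nat_lit 0x20202020212020)) (NT.lf (nat_lit 0x0)))) (NT.nd (NT.nd (NT.lf (nat_lit 0x20201f1f1f1f20)) (NT.lf (nat_lit 0x0))) (NT.nd (NT.lf (nat_lit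 0x21212122212121)) (NT.lf (nat_lit 0x0))))) (NT.nd (NT.nd (NT.nd (NT.lf (nat_lit 0x20201f1f1f1f1f)) (NT.lf (nat_lit 0x0))) (NT.nd (NT.lf (nat_lit 0x21212122212120)) (NT.lf (nat_lit 0x0)))) (NT.nd (NT.nd (NT.lf (nat_lit 0x1f1f1f20202020)) (NT.lf (nat_lit 0x0))) (NT.nd (NT.lf (nat_lit 0x21222223222221)) (NT.lf (nat_lit 0x0))))))) (NT.nd (NT.nd (NT.nd (NT.nd (NT.nd (NT.lf (nat_lit 0x1f1f1e1d1e1e1f)) (NT.lf (nat_lit 0x0))) (NT.nd (NT.lf (nat_lit 0x20202021202020)) (NT.lf (nat_lit 0x0)))) (NT.nd (NT.nd (NT.lf (nat_lit 0x201f1f1e1f1f20)) (NT.lf (nat_lit 0x0))) (NT.nd (NT.lf (nat_lit 0x20212121212121)) (NT.lf (nat_lit 0x0))))) (NT.nd (NT.nd (NT.nd (NT.lf (nat_lit 0x201f1f1e1f1f1f)) (NT.lf (nat_lit 0x0))) (NT.nd (NT.lf (nat_lit 0x20212121212120)) (NT.lf (nat_lit 0x0)))) (NT.nd (NT.nd (NT.lf (nat_lit 0x1f1f1f1f202020)) (NT.lf (nat_lit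 0x0))) (NT.nd (NT.lf (nat_lit 0x21222223222121)) (NT.lf (nat_lit 0x0)))))) (NT.nd (NT.nd (NT.nd (NT.nd (NT.lf (nat_lit 0x201f1e1e1e1f1f)) (NT.lf (nat_lit 0x0))) (NT.nd (NT.lf (nat_lit 0x21212121212020)) (NT.lf (nat_lit 0x0)))) (NT.nd (NT.nd (NT.lf (nat_lit 0x20201f1f201f20)) (NT.lf (nat_lit 0x0))) (NT.nd (NT.lf (nat_lit 0x20202122222121)) (NT.lf (nat_lit 0x0))))) (NT.nd (NT.nd (NT.nd (NT.lf (nat_lit 0x20201f1f1f201f)) (NT.lf (nat_lit 0x0))) (NT.nd (NT.lf (nat_lit 0x20202020202021)) (NT.lf (nat_lit 0x0)))) (NT.nd (NT.nd (NT.lf (nat_lit 0x201f2020202020)) (NT.lf (nat_lit 0x0))) (NT.nd (NT.lf (nat_lit 0x21222324232222)) (NT.lf (nat_lit 0x0)))))))) (NT.nd (NT.nd (NT.nd (NT.nd (NT.nd (NT.nd (NT.lf (nat_lit 0x1f1e1d1d1e1e1f)) (NT.lf (nat_lit 0x20202020202020))) (NT.nd (NT.lf (nat_lit 0x20212120202020)) (NT.lf (nat_lit 0x0)))) (NT.nd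 (NT.nd (NT.lf (nat_lit 0x201f1e1e1f1f20)) (NT.lf (nat_lit 0x0))) (NT.nd (NT.lf (nat_lit 0x20202021212121)) (NT.lf (nat_lit 0x0))))) (NT.nd (NT.nd (NT.nd (NT.lf (nat_lit 0x201f1e1e1f1f1f)) (NT.lf (nat_lit 0x0))) (NT.nd (NT.lf (nat_lit 0x20202021212120)) (NT.lf (nat_lit 0x0)))) (NT.nd (NT.nd (NT.lf (nat_lit 0x2020201f1f2020)) (NT.lf (nat_lit 0x0))) (NT.nd (NT.lf (nat_lit 0x20212223222121)) (NT.lf (nat_lit 0x0)))))) (NT.nd (NT.nd (NT.nd (NT.nd (NT.lf (nat_lit 0x1f1e1e1e1e1f1f)) (NT.lf (nat_lit 0x0))) (NT.nd (NT.lf (nat_lit 0x20202121212020)) (NT.lf (nat_lit 0x0)))) (NT.nd (NT.nd (NT.lf (nat_lit 0x1f1f1f1f201f20)) (NT.lf (nat_lit 0x0))) (NT.nd (NT.lf (nat_lit 0x21212222212121)) (NT.lf (nat_lit 0x0))))) (NT.nd (NT.nd (NT.nd (NT.lf (nat_lit 0x1f1f1f1f1f201f)) (NT.lf (nat_lit 0x0))) (NT.nd (NT.lf (nat_lit 0x21212222212120)) (NT.lf (nat_lit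 0x0)))) (NT.nd (NT.nd (NT.lf (nat_lit 0x20201f20202020)) (NT.lf (nat_lit 0x0))) (NT.nd (NT.lf (nat_lit 0x21222324222221)) (NT.lf (nat_lit 0x0))))))) (NT.nd (NT.nd (NT.nd (NT.nd (NT.nd (NT.lf (nat_lit 0x1f1e1d1d1e1f1f)) (NT.lf (nat_lit 0x0))) (NT.nd (NT.lf (nat_lit 0x20212121202020)) (NT.lf (nat_lit 0x0)))) (NT.nd (NT.nd (NT.lf (nat_lit 0x1f1f1f1f1f1f20)) (NT.lf (nat_lit 0x0))) (NT.nd (NT.lf (nat_lit 0x20202122212121)) (NT.lf (nat_lit 0x0))))) (NT.nd (NT.nd (NT.nd (NT.lf (nat_lit 0x1f1f1f1f1f1f1f)) (NT.lf (nat_lit 0x0))) (NT.nd (NT.lf (nat_lit 0x20202122212120)) (NT.lf (nat_lit 0x0)))) (NT.nd (NT.nd (NT.lf (nat_lit 0x20201f1f202020)) (NT.lf (nat_lit 0x0))) (NT.nd (NT.lf (nat_lit 0x20212223222221)) (NT.lf (nat_lit 0x0)))))) (NT.nd (NT.nd (NT.nd (NT.nd (NT.lf (nat_lit 0x201f1f1e1e1f1f)) (NT.lf (nat_lit 0x0))) (NT.nd (NT.lf (nat_lit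 0x20202021202120)) (NT.lf (nat_lit 0x0)))) (NT.nd (NT.nd (NT.lf (nat_lit 0x20202020201f20)) (NT.lf (nat_lit 0x0))) (NT.nd (NT.lf (nat_lit 0x21212122222121)) (NT.lf (nat_lit 0x0))))) (NT.nd (NT.nd (NT.nd (NT.lf (nat_lit 0x202020201f201f)) (NT.lf (nat_lit 0x0))) (NT.nd (NT.lf (nat_lit 0x20202021212021)) (NT.lf (nat_lit 0x0)))) (NT.nd (NT.nd (NT.lf (nat_lit 0x21202020202020)) (NT.lf (nat_lit 0x0))) (NT.nd (NT.lf (nat_lit 0x20202020202020)) (NT.lf (nat_lit 0x0))))))))),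
   [0, 1, 2, 0, 3, 1, 2, 0, 3, 2, 4, 3, 1, 2, 0, 3, 2, 4, 3, 1, 5, 4, 3, 1, 2, 0, 3, 2, 4, 3, 1, 5, 4, 3, 2, 0, 6, 5, 4, 3, 1, 2, 0, 3, 2, 4, 3, 1, 5, 4, 3, 2, 0, 6, 5, 4, 3, 1, 2, 3, 4, 5, 6],
   [0, 2, 3, 1, 3, 4, 5, 6, 5, 4, 3, 2, 0]⟩

theorem cofc0 : segAll 0 20 (cofColRow chevE7 T U) = true := by decide +kernel
theorem cofc20 : segAll 20 20 (cofColRow chevE7 T U) = true := by decide +kernel
theorem cofc40 : segAll 40 20 (cofColRow chevE7 T U) = true := by decide +kernel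
theorem cofc60 : segAll 60 20 (cofColRow chevE7 T U) = true := by decide +kernel
theorem cofc80 : segAll 80 20 (cofColRow chevE7 T U) = true := by decide +kernel
theorem cofc100 : segAll 100 20 (cofColRow chevE7 T U) = true := by decide +kernel
theorem cofc120 : segAll 120 6 (cofColRow chevE7 T U) = true := by decide +kernel
theorem kidx0 : segAll 0 80 (kIdxRow chevE7 T) = true := by decide +kernel
theorem kidx80 : segAll 80 46 (kIdxRow chevE7 T) = true := by decide +kernel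
theorem rootr0 : segAll 0 40 (rootRow chevE7 U) = true := by decide +kernel
theorem rootr40 : segAll 40 40 (rootRow chevE7 U) = true := by decide +kernel
theorem rootr80 : segAll 80 40 (rootRow chevE7 U) = true := by decide +kernel
theorem rootr120 : segAll 120 6 (rootRow chevE7 U) = true := by decide +kernel
theorem simpr0 : segAll 0 7 (simpleRow chevE7 T U) = true := by decide +kernel
theorem wrow0 : segAll 0 1 (wRow3 chevE7 T U) = true := by decide +kernel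
theorem wrow1 : segAll 1 1 (wRow3 chevE7 T U) = true := by decide +kernel
theorem wrow2 : segAll 2 1 (wRow3 chevE7 T U) = true := by decide +kernel
theorem wrow3 : segAll 3 1 (wRow3 chevE7 T U) = true := by decide +kernel
theorem wrow4 : segAll 4 1 (wRow3 chevE7 T U) = true := by decide +kernel
theorem wrow5 : segAll 5 1 (wRow3 chevE7 T U) = true := by decide +kernel
theorem wrow6 : segAll 6 1 (wRow3 chevE7 T U) = true := by decide +kernel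
theorem hgt63 : segAll 63 63 (heightRow chevE7 T U) = true := by decide +kernel
theorem sup263 : segAll 63 63 (support2Row chevE7 U) = true := by decide +kernel

theorem w0C : w0Check chevE7 T U = true := by decide +kernel
theorem walkC : walkCheck chevE7 T U = true := by decide +kernel
theorem repsC : repsCheck chevE7 T = true := by decide +kernel

end Cfsg.Agent.H04.Chev.TE7
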