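import Cfsg.Agent.Lib.H04.Chev.Tab.E8
import Cfsg.Agent.Lib.H04.Chev.Defs3

/-! Generated tables for the type E8: coefficients of the roots. -/

set_option autoImplicit false
set_option maxRecDepth 100000
set_option Elab.async false

open Cfsg.Lie

namespace Cfsg.Agent.H04.Chev.TE8

/-- tables -/
noncomputable def U : Tabs3 :=
  ⟨NT.nd (NT.nd (NT.nd (NT.nd (NT.nd (NT.nd (NT.nd (NT.nd (NT.lf (nat_lit 0x1e1d1c1b1a1c1d1e)) (NT.lf (nat_lit 0x2021212120202020))) (NT.nd (NT.lf (nat_lit 0x20201f1f1e1f1f1f)) (NT.lf (nat_lit 0x2121222222222121)))) (NT.nd (NT.nd (NT.lf (nat_lit 0x201f1e1e1d1e1e1f)) (NT.lf (nat_lit 0x2121222222212120))) (NT.nd (NT.lf (nat_lit 0x2020201f1f201f20)) (NT.lf (nat_lit 0x2122232425232221))))) (NT.nd (NT.nd (NT.nd (NT.lf (nat_lit 0x1f1e1d1c1c1d1e1f)) (NT.lf (nat_lit 0x2020212121202120))) (NT.nd (NT.lf (nat_lit 0x201f1e1e1e1f1f20)) (NT.lf (nat_lit 0x2121222223222221))))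 (NT.nd (NT.nd (NT.lf (nat_lit 0x201f1e1e1e1e1f1f)) (NT.lf (nat_lit 0x2021212122212121))) (NT.nd (NT.lf (nat_lit 0x20201f1f20202020)) (NT.lf (nat_lit 0x2020202020202020)))))) (NT.nd (NT.nd (NT.nd (NT.nd (NT.lf (nat_lit 0x1f1e1d1c1b1d1e1e)) (NT.lf (nat_lit 0x2020202021212020))) (NT.nd (NT.lf (nat_lit 0x201f1f1f1f1f201f)) (NT.lf (nat_lit 0x2021222323222121)))) (NT.nd (NT.nd (NT.lf (nat_lit 0x1f1e1e1e1d1e1f1f)) (NT.lf (nat_lit 0x2121212121212021))) (NT.nd (NT.lf (nat_lit 0x20202020201f2020)) (NT.lf (nat_lit 0x2122232425242222))))) (NT.nd (NT.nd (NT.nd (NT.lf (nat_lit 0x1f1f1e1d1c1e1e1f)) (NT.lf (nat_lit 0x2020202122212120))) (NT.nd (NT.lf (nat_lit 0x1f1f1f1f1f1f1f20)) (NT.lf (nat_lit 0x2122222324222221)))) (NT.nd (NT.nd (NT.lf (nat_lit 0x1f1e1e1e1e1f1f1f)) (NT.lf (nat_lit 0x2020202122222121))) (NT.nd (NT.lf (nat_lit 0x2120202020202020)) (NT.lf (nat_lit 0x0))))))) (NT.nd (NT.nd (NT.nd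 (NT.nd (NT.nd (NT.lf (nat_lit 0x1f1e1d1c1a1c1d1e)) (NT.lf (nat_lit 0x2020212121202020))) (NT.nd (NT.lf (nat_lit 0x20201f1f1f1f1f1f)) (NT.lf (nat_lit 0x2121212223222121)))) (NT.nd (NT.nd (NT.lf (nat_lit 0x1f1e1d1d1d1e1f1f)) (NT.lf (nat_lit 0x2020202021212021))) (NT.nd (NT.lf (nat_lit 0x201f1f1f1f1f2020)) (NT.lf (nat_lit 0x2122222324232222))))) (NT.nd (NT.nd (NT.nd (NT.lf (nat_lit 0x201f1e1d1c1d1e1f)) (NT.lf (nat_lit 0x2020202121212120))) (NT.nd (NT.lf (nat_lit 0x1f1f1f1f1e1f1f20)) (NT.lf (nat_lit 0x2122222323222221)))) (NT.nd (NT.nd (NT.lf (nat_lit 0x1f1f1f1f1e1e1f1f)) (NT.lf (nat_lit 0x2121212222212121))) (NT.nd (NT.lf (nat_lit 0x20201f2020202020)) (NT.lf (nat_lit 0x2020202020202020)))))) (NT.nd (NT.nd (NT.nd (NT.nd (NT.lf (nat_lit 0x1f1f1e1d1c1d1e1e)) (NT.lf (nat_lit 0x2121212121212020))) (NT.nd (NT.lf (nat_lit 0x20202020201f201f)) (NT.lf (nat_lit 0x2020212223222221)))) (NT.nd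 (NT.nd (NT.lf (nat_lit 0x201f1f1e1d1e1f1f)) (NT.lf (nat_lit 0x2021212121212121))) (NT.nd (NT.lf (nat_lit 0x2020201f1f202020)) (NT.lf (nat_lit 0x2122232526242322))))) (NT.nd (NT.nd (NT.nd (NT.lf (nat_lit 0x1f1f1e1d1d1e1e1f)) (NT.lf (nat_lit 0x2020212222212120))) (NT.nd (NT.lf (nat_lit 0x202020201f1f1f20)) (NT.lf (nat_lit 0x2121222324232221)))) (NT.nd (NT.nd (NT.lf (nat_lit 0x201f1f1e1e1f1f1f)) (NT.lf (nat_lit 0x2020212222222121))) (NT.nd (NT.lf (nat_lit 0x2021212020202020)) (NT.lf (nat_lit 0x0)))))))) (NT.nd (NT.nd (NT.nd (NT.nd (NT.nd (NT.nd (NT.lf (nat_lit 0x1f1e1c1b1a1c1d1e)) (NT.lf (nat_lit 0x2020202021202020))) (NT.nd (NT.lf (nat_lit 0x1f1f1f1f1f1f1f1f)) (NT.lf (nat_lit 0x2020212223222121)))) (NT.nd (NT.nd (NT.lf (nat_lit 0x201f1f1e1d1e1e1f)) (NT.lf (nat_lit 0x2020202020202021))) (NT.nd (NT.lf (nat_lit 0x2020202020201f20)) (NT.lf (nat_lit 0x2021222324232222))))) (NT.nd (NT.nd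 (NT.nd (NT.lf (nat_lit 0x1f1e1e1d1c1d1e1f)) (NT.lf (nat_lit 0x2121212121202120))) (NT.nd (NT.lf (nat_lit 0x201f1f1e1e1f1f20)) (NT.lf (nat_lit 0x2021222323222221)))) (NT.nd (NT.nd (NT.lf (nat_lit 0x201f1f1e1e1e1f1f)) (NT.lf (nat_lit 0x2020212222212121))) (NT.nd (NT.lf (nat_lit 0x1f1f1f2020202020)) (NT.lf (nat_lit 0x2020202020202020)))))) (NT.nd (NT.nd (NT.nd (NT.nd (NT.lf (nat_lit 0x1f1e1d1d1c1d1e1e)) (NT.lf (nat_lit 0x2020212121212020))) (NT.nd (NT.lf (nat_lit 0x2020201f1f1f201f)) (NT.lf (nat_lit 0x2122222323222121)))) (NT.nd (NT.nd (NT.lf (nat_lit 0x201f1e1e1d1e1f1f)) (NT.lf (nat_lit 0x2020202121212121))) (NT.nd (NT.lf (nat_lit 0x201f1f1f1f202020)) (NT.lf (nat_lit 0x2122232425242322))))) (NT.nd (NT.nd (NT.nd (NT.lf (nat_lit 0x1f1e1d1d1d1e1e1f)) (NT.lf (nat_lit 0x2021212122212120))) (NT.nd (NT.lf (nat_lit 0x20201f1f1f1f1f20)) (NT.lf (nat_lit 0x2122232424222221)))) (NT.nd (NT.nd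 (NT.lf (nat_lit 0x201f1e1e1e1f1f1f)) (NT.lf (nat_lit 0x2021212122222121))) (NT.nd (NT.lf (nat_lit 0x2121202020202020)) (NT.lf (nat_lit 0x0))))))) (NT.nd (NT.nd (NT.nd (NT.nd (NT.nd (NT.lf (nat_lit 0x1f1e1d1c1b1d1d1e)) (NT.lf (nat_lit 0x2121212121202020))) (NT.nd (NT.lf (nat_lit 0x202020201f1f1f1f)) (NT.lf (nat_lit 0x2121222223222121)))) (NT.nd (NT.nd (NT.lf (nat_lit 0x1f1f1e1d1d1e1f1f)) (NT.lf (nat_lit 0x2020212121212021))) (NT.nd (NT.lf (nat_lit 0x2020201f1f1f2020)) (NT.lf (nat_lit 0x2122232424232222))))) (NT.nd (NT.nd (NT.nd (NT.lf (nat_lit 0x1f1e1d1d1c1e1e1f)) (NT.lf (nat_lit 0x2021212121212120))) (NT.nd (NT.lf (nat_lit 0x20201f1f1e1f1f20)) (NT.lf (nat_lit 0x2021222324222221)))) (NT.nd (NT.nd (NT.lf (nat_lit 0x20201f1f1e1e1f1f)) (NT.lf (nat_lit 0x2121222222212121))) (NT.nd (NT.lf (nat_lit 0x201f202020202020)) (NT.lf (nat_lit 0x2020202020202020)))))) (NT.nd (NT.nd (NT.nd (NT.nd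 (NT.lf (nat_lit 0x1f1e1d1c1b1d1d1f)) (NT.lf (nat_lit 0x2020202021202120))) (NT.nd (NT.lf (nat_lit 0x1f1e1e1e1e1f1f20)) (NT.lf (nat_lit 0x2121212223222221)))) (NT.nd (NT.nd (NT.lf (nat_lit 0x1f1e1e1e1e1e1f1f)) (NT.lf (nat_lit 0x2020202122212121))) (NT.nd (NT.lf (nat_lit 0x1f1f1f1f20202020)) (NT.lf (nat_lit 0x2123242526242322))))) (NT.nd (NT.nd (NT.nd (NT.lf (nat_lit 0x1f1e1e1e1d1e1e1f)) (NT.lf (nat_lit 0x2121212222212120))) (NT.nd (NT.lf (nat_lit 0x201f1f1f1f201f20)) (NT.lf (nat_lit 0x2122232324232221)))) (NT.nd (NT.nd (NT.lf (nat_lit 0x1f1f1f1f1e1f1f1f)) (NT.lf (nat_lit 0x2121212222222121))) (NT.nd (NT.lf (nat_lit 0x2020202120202020)) (NT.lf (nat_lit 0x0))))))))) (NT.nd (NT.nd (NT.nd (NT.nd (NT.nd (NT.nd (NT.nd (NT.lf (nat_lit 0x1f1d1c1b1a1c1d1e)) (NT.lf (nat_lit 0x2121212120202020))) (NT.nd (NT.lf (nat_lit 0x2020201f1e1f1f1f)) (NT.lf (nat_lit 0x2122222222222121)))) (NT.nd (NT.nd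 (NT.lf (nat_lit 0x1f1f1f1e1d1e1e1f)) (NT.lf (nat_lit 0x2122222222212120))) (NT.nd (NT.lf (nat_lit 0x202020201f201f20)) (NT.lf (nat_lit 0x2122232425232321))))) (NT.nd (NT.nd (NT.nd (NT.lf (nat_lit 0x1f1e1d1d1c1d1e1f)) (NT.lf (nat_lit 0x2021212121202120))) (NT.nd (NT.lf (nat_lit 0x1f1f1f1e1e1f1f20)) (NT.lf (nat_lit 0x2122222223222221)))) (NT.nd (NT.nd (NT.lf (nat_lit 0x1f1f1f1e1e1e1f1f)) (NT.lf (nat_lit 0x2121212122212121))) (NT.nd (NT.lf (nat_lit 0x2020201f20202020)) (NT.lf (nat_lit 0x2020202020202020)))))) (NT.nd (NT.nd (NT.nd (NT.nd (NT.lf (nat_lit 0x1f1e1d1c1c1d1e1e)) (NT.lf (nat_lit 0x2020202121212020))) (NT.nd (NT.lf (nat_lit 0x20201f1f1f1f201f)) (NT.lf (nat_lit 0x2121222323222121)))) (NT.nd (NT.nd (NT.lf (nat_lit 0x1f1f1e1e1d1e1f1f)) (NT.lf (nat_lit 0x2020202021212121))) (NT.nd (NT.lf (nat_lit 0x1f1f1f1f1f202020)) (NT.lf (nat_lit 0x2122232425232322))))) (NT.nd (NT.nd (NT.nd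 (NT.lf (nat_lit 0x201f1e1d1c1e1e1f)) (NT.lf (nat_lit 0x2020212122212120))) (NT.nd (NT.lf (nat_lit 0x201f1f1f1f1f1f20)) (NT.lf (nat_lit 0x2122232324222221)))) (NT.nd (NT.nd (NT.lf (nat_lit 0x1f1f1e1e1e1f1f1f)) (NT.lf (nat_lit 0x2020212122222121))) (NT.nd (NT.lf (nat_lit 0x2021202020202020)) (NT.lf (nat_lit 0x0))))))) (NT.nd (NT.nd (NT.nd (NT.nd (NT.nd (NT.lf (nat_lit 0x1f1e1d1c1b1c1d1e)) (NT.lf (nat_lit 0x2021212121202020))) (NT.nd (NT.lf (nat_lit 0x2020201f1f1f1f1f)) (NT.lf (nat_lit 0x2021222223222121)))) (NT.nd (NT.nd (NT.lf (nat_lit 0x1f1e1e1d1d1e1f1f)) (NT.lf (nat_lit 0x2020202121212021))) (NT.nd (NT.lf (nat_lit 0x20201f1f1f1f2020)) (NT.lf (nat_lit 0x2122232324232222))))) (NT.nd (NT.nd (NT.nd (NT.lf (nat_lit 0x1f1e1d1c1c1e1e1f)) (NT.lf (nat_lit 0x2020212121212120))) (NT.nd (NT.lf (nat_lit 0x201f1f1f1e1f1f20)) (NT.lf (nat_lit 0x2122232323222221)))) (NT.nd (NT.nd (NT.lf (nat_lit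 0x201f1f1f1e1e1f1f)) (NT.lf (nat_lit 0x2021222222212121))) (NT.nd (NT.lf (nat_lit 0x1f1f202020202020)) (NT.lf (nat_lit 0x2020202020202020)))))) (NT.nd (NT.nd (NT.nd (NT.nd (NT.lf (nat_lit 0x201f1e1d1c1d1e1e)) (NT.lf (nat_lit 0x2020202020202120))) (NT.nd (NT.lf (nat_lit 0x202020202020201f)) (NT.lf (nat_lit 0x2021212223222221)))) (NT.nd (NT.nd (NT.lf (nat_lit 0x20201f1e1d1e1f1f)) (NT.lf (nat_lit 0x2121212121212121))) (NT.nd (NT.lf (nat_lit 0x202020201f202020)) (NT.lf (nat_lit 0x2122242526242322))))) (NT.nd (NT.nd (NT.nd (NT.lf (nat_lit 0x201f1e1d1d1e1e1f)) (NT.lf (nat_lit 0x2021212222212120))) (NT.nd (NT.lf (nat_lit 0x1f1f1f1f1f201f20)) (NT.lf (nat_lit 0x2122222324232221)))) (NT.nd (NT.nd (NT.lf (nat_lit 0x20201f1e1e1f1f1f)) (NT.lf (nat_lit 0x2021212222222121))) (NT.nd (NT.lf (nat_lit 0x2121212020202020)) (NT.lf (nat_lit 0x0)))))))) (NT.nd (NT.nd (NT.nd (NT.nd (NT.nd (NT.nd (NT.lf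 (nat_lit 0x1f1e1d1b1a1c1d1e)) (NT.lf (nat_lit 0x2020202121202020))) (NT.nd (NT.lf (nat_lit 0x201f1f1f1f1f1f1f)) (NT.lf (nat_lit 0x2021212223222121)))) (NT.nd (NT.nd (NT.lf (nat_lit 0x20201f1e1d1e1e1f)) (NT.lf (nat_lit 0x2020202020212021))) (NT.nd (NT.lf (nat_lit 0x1f1f1f1f1f1f2020)) (NT.lf (nat_lit 0x2121222324232222))))) (NT.nd (NT.nd (NT.nd (NT.lf (nat_lit 0x1f1f1e1d1c1d1e1f)) (NT.lf (nat_lit 0x2020202021212120))) (NT.nd (NT.lf (nat_lit 0x20201f1e1e1f1f20)) (NT.lf (nat_lit 0x2121222323222221)))) (NT.nd (NT.nd (NT.lf (nat_lit 0x20201f1e1e1e1f1f)) (NT.lf (nat_lit 0x2021212222212121))) (NT.nd (NT.lf (nat_lit 0x201f1f2020202020)) (NT.lf (nat_lit 0x2020202020202020)))))) (NT.nd (NT.nd (NT.nd (NT.nd (NT.lf (nat_lit 0x1f1e1e1d1c1d1e1e)) (NT.lf (nat_lit 0x2021212121212020))) (NT.nd (NT.lf (nat_lit 0x202020201f1f201f)) (NT.lf (nat_lit 0x2122232323222121)))) (NT.nd (NT.nd (NT.lf (nat_lit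 0x1f1f1f1e1d1e1f1f)) (NT.lf (nat_lit 0x2020212121212121))) (NT.nd (NT.lf (nat_lit 0x20201f1f1f202020)) (NT.lf (nat_lit 0x2122232426242322))))) (NT.nd (NT.nd (NT.nd (NT.lf (nat_lit 0x1f1e1e1d1d1e1e1f)) (NT.lf (nat_lit 0x2121212122212120))) (NT.nd (NT.lf (nat_lit 0x2020201f1f1f1f20)) (NT.lf (nat_lit 0x2021222324232221)))) (NT.nd (NT.nd (NT.lf (nat_lit 0x1f1f1f1e1e1f1f1f)) (NT.lf (nat_lit 0x2121212122222121))) (NT.nd (NT.lf (nat_lit 0x2020212020202020)) (NT.lf (nat_lit 0x0))))))) (NT.nd (NT.nd (NT.nd (NT.nd (NT.nd (NT.lf (nat_lit 0x1f1e1d1c1b1c1e1e)) (NT.lf (nat_lit 0x2020202020212020))) (NT.nd (NT.lf (nat_lit 0x1f1f1f1f1f1f201f)) (NT.lf (nat_lit 0x2122222223222121)))) (NT.nd (NT.nd (NT.lf (nat_lit 0x201f1e1d1d1e1f1f)) (NT.lf (nat_lit 0x2021212121212021))) (NT.nd (NT.lf (nat_lit 0x202020201f1f2020)) (NT.lf (nat_lit 0x2122232425232222))))) (NT.nd (NT.nd (NT.nd (NT.lf (nat_lit 0x1f1e1e1d1c1e1e1f))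 (NT.lf (nat_lit 0x2121212121212120))) (NT.nd (NT.lf (nat_lit 0x2020201f1e1f1f20)) (NT.lf (nat_lit 0x2121222324222221)))) (NT.nd (NT.nd (NT.lf (nat_lit 0x2020201f1e1e1f1f)) (NT.lf (nat_lit 0x2122222222212121))) (NT.nd (NT.lf (nat_lit 0x1f20202020202020)) (NT.lf (nat_lit 0x2020202020202020)))))) (NT.nd (NT.nd (NT.nd (NT.nd (NT.lf (nat_lit 0x1f1e1d1c1b1d1e1f)) (NT.lf (nat_lit 0x2020202121202120))) (NT.nd (NT.lf (nat_lit 0x1f1f1e1e1e1f1f20)) (NT.lf (nat_lit 0x2021222223222221)))) (NT.nd (NT.nd (NT.lf (nat_lit 0x1f1f1e1e1e1e1f1f)) (NT.lf (nat_lit 0x2020212122212121))) (NT.nd (NT.lf (nat_lit 0x201f1f1f20202020)) (NT.lf (nat_lit 0x2223242526242322))))) (NT.nd (NT.nd (NT.nd (NT.lf (nat_lit 0x1f1f1e1e1d1e1e1f)) (NT.lf (nat_lit 0x2021222222212120))) (NT.nd (NT.lf (nat_lit 0x20201f1f1f201f20)) (NT.lf (nat_lit 0x2122232424232221)))) (NT.nd (NT.nd (NT.lf (nat_lit 0x201f1f1f1e1f1f1f)) (NT.lf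 (nat_lit 0x2021222222222121))) (NT.nd (NT.lf (nat_lit 0x2020212120202020)) (NT.lf (nat_lit 0x0))))))))),
   [0, 1, 2, 0, 3, 1, 2, 0, 3, 2, 4, 3, 1, 2, 0, 3, 2, 4, 3, 1, 5, 4, 3, 1, 2, 0, 3, 2, 4, 3, 1, 5, 4, 3, 2, 0, 6, 5, 4, 3, 1, 2, 0, 3, 2, 4, 3, 1, 5, 4, 3, 2, 0, 6, 5, 4, 3, 1, 2, 3, 4, 5, 6, 7, 6, 5, 4, 3, 1, 2, 0, 3, 2, 4, 3, 1, 5, 4, 3, 2, 0, 6, 5, 4, 3, 1, 2, 3, 4, 5, 6, 7, 6, 5, 4, 3, 1, 2, 0, 3, 2, 4, 3, 1, 5, 4, 3, 2, 0, 6, 5, 4, 3, 1, 2, 3, 4, 5, 6, 7],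
   [0, 2, 3, 1, 3, 4, 5, 6, 7, 6, 5, 4, 3, 2, 0]⟩

theorem cofc0 : segAll 0 10 (cofColRow chevE8 T U) = true := by decide +kernel
theorem cofc10 : segAll 10 10 (cofColRow chevE8 T U) = true := by decide +kernel
theorem cofc20 : segAll 20 10 (cofColRow chevE8 T U) = true := by decide +kernel
theorem cofc30 : segAll 30 10 (cofColRow chevE8 T U) = true := by decide +kernel
theorem cofc40 : segAll 40 10 (cofColRow chevE8 T U) = true := by decide +kernel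
theorem cofc50 : segAll 50 10 (cofColRow chevE8 T U) = true := by decide +kernel
theorem cofc60 : segAll 60 10 (cofColRow chevE8 T U) = true := by decide +kernel
theorem cofc70 : segAll 70 10 (cofColRow chevE8 T U) = true := by decide +kernel
theorem cofc80 : segAll 80 10 (cofColRow chevE8 T U) = true := by decide +kernel
theorem cofc90 : segAll 90 10 (cofColRow chevE8 T U) = true := by decide +kernel
theorem cofc100 : segAll 100 10 (cofColRow chevE8 T U) = true := by decide +kernel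
theorem cofc110 : segAll 110 10 (cofColRow chevE8 T U) = true := by decide +kernel
theorem cofc120 : segAll 120 10 (cofColRow chevE8 T U) = true := by decide +kernel
theorem cofc130 : segAll 130 10 (cofColRow chevE8 T U) = true := by decide +kernel
theorem cofc140 : segAll 140 10 (cofColRow chevE8 T U) = true := by decide +kernel
theorem cofc150 : segAll 150 10 (cofColRow chevE8 T U) = true := by decide +kernel
theorem cofc160 : segAll 160 10 (cofColRow chevE8 T U) = true := by decide +kernel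
theorem cofc170 : segAll 170 10 (cofColRow chevE8 T U) = true := by decide +kernel
theorem cofc180 : segAll 180 10 (cofColRow chevE8 T U) = true := by decide +kernel
theorem cofc190 : segAll 190 10 (cofColRow chevE8 T U) = true := by decide +kernel
theorem cofc200 : segAll 200 10 (cofColRow chevE8 T U) = true := by decide +kernel
theorem cofc210 : segAll 210 10 (cofColRow chevE8 T U) = true := by decide +kernel
theorem cofc220 : segAll 220 10 (cofColRow chevE8 T U) = true := by decide +kernel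
theorem cofc230 : segAll 230 10 (cofColRow chevE8 T U) = true := by decide +kernel
theorem kidx0 : segAll 0 40 (kIdxRow chevE8 T) = true := by decide +kernel
theorem kidx40 : segAll 40 40 (kIdxRow chevE8 T) = true := by decide +kernel
theorem kidx80 : segAll 80 40 (kIdxRow chevE8 T) = true := by decide +kernel
theorem kidx120 : segAll 120 40 (kIdxRow chevE8 T) = true := by decide +kernel
theorem kidx160 : segAll 160 40 (kIdxRow chevE8 T) = true := by decide +kernel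
theorem kidx200 : segAll 200 40 (kIdxRow chevE8 T) = true := by decide +kernel
theorem rootr0 : segAll 0 20 (rootRow chevE8 U) = true := by decide +kernel
theorem rootr20 : segAll 20 20 (rootRow chevE8 U) = true := by decide +kernel
theorem rootr40 : segAll 40 20 (rootRow chevE8 U) = true := by decide +kernel
theorem rootr60 : segAll 60 20 (rootRow chevE8 U) = true := by decide +kernel
theorem rootr80 : segAll 80 20 (rootRow chevE8 U) = true := by decide +kernel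
theorem rootr100 : segAll 100 20 (rootRow chevE8 U) = true := by decide +kernel
theorem rootr120 : segAll 120 20 (rootRow chevE8 U) = true := by decide +kernel
theorem rootr140 : segAll 140 20 (rootRow chevE8 U) = true := by decide +kernel
theorem rootr160 : segAll 160 20 (rootRow chevE8 U) = true := by decide +kernel
theorem rootr180 : segAll 180 20 (rootRow chevE8 U) = true := by decide +kernel
theorem rootr200 : segAll 200 20 (rootRow chevE8 U) = true := by decide +kernel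
theorem rootr220 : segAll 220 20 (rootRow chevE8 U) = true := by decide +kernel
theorem simpr0 : segAll 0 8 (simpleRow chevE8 T U) = true := by decide +kernel
theorem wrow0 : segAll 0 1 (wRow3 chevE8 T U) = true := by decide +kernel
theorem wrow1 : segAll 1 1 (wRow3 chevE8 T U) = true := by decide +kernel
theorem wrow2 : segAll 2 1 (wRow3 chevE8 T U) = true := by decide +kernel
theorem wrow3 : segAll 3 1 (wRow3 chevE8 T U) = true := by decide +kernel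
theorem wrow4 : segAll 4 1 (wRow3 chevE8 T U) = true := by decide +kernel
theorem wrow5 : segAll 5 1 (wRow3 chevE8 T U) = true := by decide +kernel
theorem wrow6 : segAll 6 1 (wRow3 chevE8 T U) = true := by decide +kernel
theorem wrow7 : segAll 7 1 (wRow3 chevE8 T U) = true := by decide +kernel
theorem hgt120 : segAll 120 120 (heightRow chevE8 T U) = true := by decide +kernel
theorem sup2120 : segAll 120 120 (support2Row chevE8 U) = true := by decide +kernel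

theorem w0C : w0Check chevE8 T U = true := by decide +kernel
theorem walkC : walkCheck chevE8 T U = true := by decide +kernel
theorem repsC : repsCheck chevE8 T = true := by decide +kernel

end Cfsg.Agent.H04.Chev.TE8
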