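import Cfsg.Agent.Lib.H04.Chev.Tab.E8

set_option autoImplicit false
set_option maxRecDepth 100000
set_option Elab.async false

open Cfsg.Lie

namespace Cfsg.Agent.H04.Chev.TE8

noncomputable def fconj8 : ℕ → Bool := fun k => checkConj chevE8 T (chevE8.simple (k / 240)) (k % 240)

theorem conj8c1280 : segAll 1280 5 fconj8 = true := by decide +kernel
theorem conj8c1285 : segAll 1285 5 fconj8 = true := by decide +kernel
theorem conj8c1290 : segAll 1290 5 fconj8 = true := by decide +kernel
theorem conj8c1295 : segAll 1295 5 fconj8 = true := by decide +kernel
theorem conj8c1300 : segAll 1300 5 fconj8 = true := by decide +kernel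
theorem conj8c1305 : segAll 1305 5 fconj8 = true := by decide +kernel
theorem conj8c1310 : segAll 1310 5 fconj8 = true := by decide +kernel
theorem conj8c1315 : segAll 1315 5 fconj8 = true := by decide +kernel
theorem conj8c1320 : segAll 1320 5 fconj8 = true := by decide +kernel
theorem conj8c1325 : segAll 1325 5 fconj8 = true := by decide +kernel
theorem conj8c1330 : segAll 1330 5 fconj8 = true := by decide +kernel
theorem conj8c1335 : segAll 1335 5 fconj8 = true := by decide +kernel
theorem conj8c1340 : segAll 1340 5 fconj8 = true := by decide +kernel
theorem conj8c1345 : segAll 1345 5 fconj8 = true := by decide +kernel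
theorem conj8c1350 : segAll 1350 5 fconj8 = true := by decide +kernel
theorem conj8c1355 : segAll 1355 5 fconj8 = true := by decide +kernel
theorem conj8c1360 : segAll 1360 5 fconj8 = true := by decide +kernel
theorem conj8c1365 : segAll 1365 5 fconj8 = true := by decide +kernel
theorem conj8c1370 : segAll 1370 5 fconj8 = true := by decide +kernel
theorem conj8c1375 : segAll 1375 5 fconj8 = true := by decide +kernel
theorem conj8c1380 : segAll 1380 5 fconj8 = true := by decide +kernel
theorem conj8c1385 : segAll 1385 5 fconj8 = true := by decide +kernel
theorem conj8c1390 : segAll 1390 5 fconj8 = true := by decide +kernel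
theorem conj8c1395 : segAll 1395 5 fconj8 = true := by decide +kernel
theorem conj8c1400 : segAll 1400 5 fconj8 = true := by decide +kernel
theorem conj8c1405 : segAll 1405 5 fconj8 = true := by decide +kernel
theorem conj8c1410 : segAll 1410 5 fconj8 = true := by decide +kernel
theorem conj8c1415 : segAll 1415 5 fconj8 = true := by decide +kernel
theorem conj8c1420 : segAll 1420 5 fconj8 = true := by decide +kernel
theorem conj8c1425 : segAll 1425 5 fconj8 = true := by decide +kernel
theorem conj8c1430 : segAll 1430 5 fconj8 = true := by decide +kernel
theorem conj8c1435 : segAll 1435 5 fconj8 = true := by decide +kernel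

theorem conj8 : segAll 1280 160 (fun k => checkConj chevE8 T (chevE8.simple (k / 240)) (k % 240)) = true := by
  have h1280 : segAll 1280 5 fconj8 = true := conj8c1280
  have h1285 : segAll 1280 10 fconj8 = true := segAll_join h1280 conj8c1285 rfl
  have h1290 : segAll 1280 15 fconj8 = true := segAll_join h1285 conj8c1290 rfl
  have h1295 : segAll 1280 20 fconj8 = true := segAll_join h1290 conj8c1295 rfl
  have h1300 : segAll 1280 25 fconj8 = true := segAll_join h1295 conj8c1300 rfl
  have h1305 : segAll 1280 30 fconj8 = true := segAll_join h1300 conj8c1305 rfl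
  have h1310 : segAll 1280 35 fconj8 = true := segAll_join h1305 conj8c1310 rfl
  have h1315 : segAll 1280 40 fconj8 = true := segAll_join h1310 conj8c1315 rfl
  have h1320 : segAll 1280 45 fconj8 = true := segAll_join h1315 conj8c1320 rfl
  have h1325 : segAll 1280 50 fconj8 = true := segAll_join h1320 conj8c1325 rfl
  have h1330 : segAll 1280 55 fconj8 = true := segAll_join h1325 conj8c1330 rfl
  have h1335 : segAll 1280 60 fconj8 = true := segAll_join h1330 conj8c1335 rfl
  have h1340 : segAll 1280 65 fconj8 = true := segAll_join h1335 conj8c1340 rfl
  have h1345 : segAll 1280 70 fconj8 = true := segAll_join h1340 conj8c1345 rfl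
  have h1350 : segAll 1280 75 fconj8 = true := segAll_join h1345 conj8c1350 rfl
  have h1355 : segAll 1280 80 fconj8 = true := segAll_join h1350 conj8c1355 rfl
  have h1360 : segAll 1280 85 fconj8 = true := segAll_join h1355 conj8c1360 rfl
  have h1365 : segAll 1280 90 fconj8 = true := segAll_join h1360 conj8c1365 rfl
  have h1370 : segAll 1280 95 fconj8 = true := segAll_join h1365 conj8c1370 rfl
  have h1375 : segAll 1280 100 fconj8 = true := segAll_join h1370 conj8c1375 rfl
  have h1380 : segAll 1280 105 fconj8 = true := segAll_join h1375 conj8c1380 rfl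
  have h1385 : segAll 1280 110 fconj8 = true := segAll_join h1380 conj8c1385 rfl
  have h1390 : segAll 1280 115 fconj8 = true := segAll_join h1385 conj8c1390 rfl
  have h1395 : segAll 1280 120 fconj8 = true := segAll_join h1390 conj8c1395 rfl
  have h1400 : segAll 1280 125 fconj8 = true := segAll_join h1395 conj8c1400 rfl
  have h1405 : segAll 1280 130 fconj8 = true := segAll_join h1400 conj8c1405 rfl
  have h1410 : segAll 1280 135 fconj8 = true := segAll_join h1405 conj8c1410 rfl
  have h1415 : segAll 1280 140 fconj8 = true := segAll_join h1410 conj8c1415 rfl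
  have h1420 : segAll 1280 145 fconj8 = true := segAll_join h1415 conj8c1420 rfl
  have h1425 : segAll 1280 150 fconj8 = true := segAll_join h1420 conj8c1425 rfl
  have h1430 : segAll 1280 155 fconj8 = true := segAll_join h1425 conj8c1430 rfl
  have h1435 : segAll 1280 160 fconj8 = true := segAll_join h1430 conj8c1435 rfl
  exact h1435

end Cfsg.Agent.H04.Chev.TE8
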