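import Cfsg.Agent.Lib.H04.Chev.Tab.F4
import Cfsg.Agent.Lib.H04.Chev.Defs3

/-! Generated tables for the type F4: coefficients of the roots. -/

set_option autoImplicit false
set_option maxRecDepth 100000
set_option Elab.async false

open Cfsg.Lie

namespace Cfsg.Agent.H04.Chev.TF4

/-- tables -/
noncomputable def U : Tabs3 :=
  ⟨NT.nd (NT.nd (NT.nd (NT.nd (NT.nd (NT.nd (NT.lf (nat_lit 0x1e1d1c1e)) (NT.lf (nat_lit 0x21222220))) (NT.nd (NT.lf (nat_lit 0x1f1f1e20)) (NT.lf (nat_lit 0x20202020)))) (NT.nd (NT.nd (NT.lf (nat_lit 0x1f1e1e1f)) (NT.lf (nat_lit 0x21222321))) (NT.nd (NT.lf (nat_lit 0x21202020)) (NT.lf (nat_lit 0x0))))) (NT.nd (NT.nd (NT.nd (NT.lf (nat_lit 0x1f1e1e1e)) (NT.lf (nat_lit 0x21212121))) (NT.nd (NT.lf (nat_lit 0x20201f20)) (NT.lf (nat_lit 0x0)))) (NT.nd (NT.nd (NT.lf (nat_lit 0x201f1f1f)) (NT.lf (nat_lit 0x21222322))) (NT.nd (NT.lf (nat_lit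 0x20212120)) (NT.lf (nat_lit 0x0)))))) (NT.nd (NT.nd (NT.nd (NT.nd (NT.lf (nat_lit 0x1f1e1c1e)) (NT.lf (nat_lit 0x20202121))) (NT.nd (NT.lf (nat_lit 0x1f1f1f20)) (NT.lf (nat_lit 0x20202020)))) (NT.nd (NT.nd (NT.lf (nat_lit 0x201f1e1f)) (NT.lf (nat_lit 0x21212222))) (NT.nd (NT.lf (nat_lit 0x21212020)) (NT.lf (nat_lit 0x0))))) (NT.nd (NT.nd (NT.nd (NT.lf (nat_lit 0x201f1e1e)) (NT.lf (nat_lit 0x21212221))) (NT.nd (NT.lf (nat_lit 0x201f2020)) (NT.lf (nat_lit 0x0)))) (NT.nd (NT.nd (NT.lf (nat_lit 0x2020201f)) (NT.lf (nat_lit 0x21232422))) (NT.nd (NT.lf (nat_lit 0x20212220)) (NT.lf (nat_lit 0x0))))))) (NT.nd (NT.nd (NT.nd (NT.nd (NT.nd (NT.lf (nat_lit 0x1f1d1c1e)) (NT.lf (nat_lit 0x20202021))) (NT.nd (NT.lf (nat_lit 0x201f1e20)) (NT.lf (nat_lit 0x20202020)))) (NT.nd (NT.nd (NT.lf (nat_lit 0x1f1f1e1f)) (NT.lf (nat_lit 0x20212222))) (NT.nd (NT.lf (nat_lit 0x20212020))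 (NT.lf (nat_lit 0x0))))) (NT.nd (NT.nd (NT.nd (NT.lf (nat_lit 0x1f1f1e1e)) (NT.lf (nat_lit 0x20212221))) (NT.nd (NT.lf (nat_lit 0x1f1f2020)) (NT.lf (nat_lit 0x0)))) (NT.nd (NT.nd (NT.lf (nat_lit 0x20201f1f)) (NT.lf (nat_lit 0x21222422))) (NT.nd (NT.lf (nat_lit 0x21212120)) (NT.lf (nat_lit 0x0)))))) (NT.nd (NT.nd (NT.nd (NT.nd (NT.lf (nat_lit 0x1f1e1d1e)) (NT.lf (nat_lit 0x20212121))) (NT.nd (NT.lf (nat_lit 0x201f1f20)) (NT.lf (nat_lit 0x20202020)))) (NT.nd (NT.nd (NT.lf (nat_lit 0x1f1f1f1f)) (NT.lf (nat_lit 0x21222222))) (NT.nd (NT.lf (nat_lit 0x20202120)) (NT.lf (nat_lit 0x0))))) (NT.nd (NT.nd (NT.nd (NT.lf (nat_lit 0x1f1e1d1f)) (NT.lf (nat_lit 0x21222221))) (NT.nd (NT.lf (nat_lit 0x1f202020)) (NT.lf (nat_lit 0x0)))) (NT.nd (NT.nd (NT.lf (nat_lit 0x1f1e1e20)) (NT.lf (nat_lit 0x22232422))) (NT.nd (NT.lf (nat_lit 0x21212220)) (NT.lf (nat_lit 0x0))))))),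
   [0, 1, 0, 2, 1, 0, 2, 1, 2, 3, 2, 1, 0, 2, 1, 2, 3, 2, 1, 0, 2, 1, 2, 3],
   [0, 1, 2, 3, 2, 1, 0]⟩

theorem cofc0 : segAll 0 48 (cofColRow chevF4 T U) = true := by decide +kernel
theorem kidx0 : segAll 0 48 (kIdxRow chevF4 T) = true := by decide +kernel
theorem rootr0 : segAll 0 48 (rootRow chevF4 U) = true := by decide +kernel
theorem simpr0 : segAll 0 4 (simpleRow chevF4 T U) = true := by decide +kernel
theorem wrow0 : segAll 0 4 (wRow3 chevF4 T U) = true := by decide +kernel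
theorem hgt24 : segAll 24 24 (heightRow chevF4 T U) = true := by decide +kernel
theorem sup224 : segAll 24 24 (support2Row chevF4 U) = true := by decide +kernel

theorem w0C : w0Check chevF4 T U = true := by decide +kernel
theorem walkC : walkCheck chevF4 T U = true := by decide +kernel
theorem repsC : repsCheck chevF4 T = true := by decide +kernel

end Cfsg.Agent.H04.Chev.TF4
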